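import Mathlib
import Cfsg.Prelude.Def_JComponents
import Cfsg.Agent.S1279
import Cfsg.Agent.Lib.JComp.Local
import Cfsg.Agent.Lib.JComp.Pair
import Cfsg.Agent.Lib.Signalizer.Solvable
import Cfsg.Agent.Lib.PGroup.ElemAbelian

/-!
# Groups with solvable involution centralizers in which `C(Ω₁(Z(S)))` normalises `S`

The signalizer functor `a ↦ O(C(a))` and its completions.
-/

set_option autoImplicit false

namespace Cfsg.Agent.Lib.ZC78

open Cfsg Subgroup
open Cfsg.Agent.Lib
open Cfsg.Agent.Lib.JComp (mem_omegaCenterOf two_mul_card_le card_le_two_mul)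

variable {G : Type*} [Group G] [Finite G]

/-- The hypotheses. -/
structure ZCGroup (G : Type*) [Group G] : Prop where
  solvable : ∀ t : G, orderOf t = 2 → Group.IsSolvable ↥(centralizer ({t} : Set G))
  centralizer_le : ∀ S : Sylow 2 G,
    centralizer (omegaCenterOf (S : Subgroup G) : Set G) ≤ normalizer ((S : Subgroup G) : Set G)

omit [Finite G] in
theorem orderOf_two {x : G} (h1 : x ≠ 1) (h2 : x * x = 1) : orderOf x = 2 :=
  haveI : Fact (Nat.Prime 2) := ⟨Nat.prime_two⟩
  orderOf_eq_prime (by rw [sq, h2]) h1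

omit [Finite G] in
theorem sq_of_orderOf_two {x : G} (h : orderOf x = 2) : x * x = 1 := by
  rw [← sq, ← h, pow_orderOf_eq_one]

omit [Finite G] in
theorem ne_one_of_orderOf_two {x : G} (h : orderOf x = 2) : x ≠ 1 := fun e => by simp [e] at h

/-- `O(C(a))` -/
abbrev core (a : G) : Subgroup G := centralizerPPrimeCore 2 a

theorem odd_core (a : G) : ¬ 2 ∣ Nat.card (core a) :=
  haveI : Fact (Nat.Prime 2) := ⟨Nat.prime_two⟩
  Nat.prime_two.coprime_iff_not_dvd.1 (Components.centralizerPPrimeCore_coprime a).symm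

theorem odd_of_not_dvd {X : Subgroup G} (h : ¬ 2 ∣ Nat.card X) {x : G} (hx : x ∈ X) :
    Odd (orderOf x) :=
  Odd.of_dvd_nat (Nat.odd_iff.2 (Nat.two_dvd_ne_zero.1 h)) (X.orderOf_dvd_natCard hx)

theorem core_conj (g a : G) : core (g * a * g⁻¹) = (core a).map (MulAut.conj g).toMonoidHom := by
  have key : ∀ g a : G, (core a).map (MulAut.conj g).toMonoidHom ≤ core (g * a * g⁻¹) := by
    intro g a
    set C := centralizer ({a} : Set G)
    set C' := centralizer ({g * a * g⁻¹} : Set G)
    have hmem : ∀ x, x ∈ C → g * x * g⁻¹ ∈ C' := fun x hx => by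
      refine mem_centralizer_singleton_iff.2 ?_
      have h : x * a = a * x := mem_centralizer_singleton_iff.1 hx
      calc g * x * g⁻¹ * (g * a * g⁻¹) = g * (x * a) * g⁻¹ := by group
        _ = g * a * g⁻¹ * (g * x * g⁻¹) := by rw [h]; group
    let f : C →* C' := ((MulAut.conj g).toMonoidHom.comp C.subtype).codRestrict C'
      fun x => hmem x x.2
    have hf : Function.Surjective f := by
      intro y
      have hy : g⁻¹ * y * g ∈ C := by
        refine mem_centralizer_singleton_iff.2 ?_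
        have h : (y : G) * (g * a * g⁻¹) = g * a * g⁻¹ * y :=
          mem_centralizer_singleton_iff.1 y.2
        calc g⁻¹ * y * g * a = g⁻¹ * ((y : G) * (g * a * g⁻¹)) * g := by group
          _ = a * (g⁻¹ * y * g) := by rw [h]; group
      refine ⟨⟨_, hy⟩, Subtype.ext ?_⟩
      show g * (g⁻¹ * y * g) * g⁻¹ = y
      group
    rintro _ ⟨_, ⟨x, hx, rfl⟩, rfl⟩
    exact ⟨f x, PSolvable.map_pPrimeCore_le hf (mem_map_of_mem _ hx), rfl⟩
  refine le_antisymm ?_ (key g a)
  have h := key g⁻¹ (g * a * g⁻¹)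
  rw [show g⁻¹ * (g * a * g⁻¹) * g⁻¹⁻¹ = a by group] at h
  intro x hx
  exact ⟨_, h ⟨x, hx, rfl⟩, show g * (g⁻¹ * x * g⁻¹⁻¹) * g⁻¹ = x by group⟩

theorem balance (hG : ZCGroup G) {a b : G} (ha : a * a = 1) (hb : orderOf b = 2)
    (hab : Commute a b) : core a ⊓ centralizer {b} ≤ core b := by
  haveI : Fact (Nat.Prime 2) := ⟨Nat.prime_two⟩
  exact Components.centralizerPPrimeCore_inf_le
    (Components.pLayer_eq_bot_of_isSolvable (hG.solvable b hb))
    (ElemAbelian.isPGroup (ElemAbelian.zpowers (by rw [sq, ha]))) hab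

/-- A big subgroup: elementary abelian of order at least eight. -/
def Big (A : Subgroup G) : Prop := IsElementaryAbelian 2 A ∧ 8 ≤ Nat.card A

theorem Big.map {A : Subgroup G} (hA : Big A) (g : G) :
    Big (A.map (MulAut.conj g).toMonoidHom) :=
  ⟨ElemAbelian.map hA.1 _, by rw [card_map_of_injective (MulAut.conj g).injective]; exact hA.2⟩

/-- An elementary abelian group of order four and a commuting involution outside give a big
subgroup. -/
theorem big_sup {U : Subgroup G} (hU : IsElementaryAbelian 2 U) (hU4 : 4 ≤ Nat.card U) {y : G}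
    (hy : y * y = 1) (hyU : y ∉ U) (hc : ∀ u ∈ U, y * u = u * y) : Big (U ⊔ zpowers y) := by
  refine ⟨ElemAbelian.sup hU (ElemAbelian.zpowers (by rw [sq, hy])) fun u hu => ?_, ?_⟩
  · rw [zpowers_eq_closure, centralizer_closure]
    exact mem_centralizer_singleton_iff.2 (hc u hu).symm
  · have h1 := two_mul_card_le (le_sup_left : U ≤ U ⊔ zpowers y)
      (mem_sup_right (mem_zpowers y)) hyU
    omega

/-- `⟨a, b⟩` for commuting involutions. -/
theorem four_pair {a b : G} (ha : a * a = 1) (hb : b * b = 1) (ha1 : a ≠ 1) (hb1 : b ≠ 1)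
    (hne : a ≠ b) (hab : a * b = b * a) :
    IsElementaryAbelian 2 (zpowers a ⊔ zpowers b) ∧ 4 ≤ Nat.card ↥(zpowers a ⊔ zpowers b) := by
  refine ⟨ElemAbelian.sup (ElemAbelian.zpowers (by rw [sq, ha]))
    (ElemAbelian.zpowers (by rw [sq, hb])) ?_, ?_⟩
  · rw [zpowers_eq_closure b, centralizer_closure, zpowers_le]
    exact mem_centralizer_singleton_iff.2 hab
  · have hbna : b ∉ zpowers a := fun h =>
      (JComp.eq_one_or_eq_of_mem_zpowers ha h).elim hb1 (fun e => hne e.symm)
    have h1 := two_mul_card_le (le_sup_left : zpowers a ≤ zpowers a ⊔ zpowers b)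
      (mem_sup_right (mem_zpowers b)) hbna
    rw [Nat.card_zpowers, orderOf_two ha1 ha] at h1
    omega

theorem mul_self_of_mem {A : Subgroup G} (hA : IsElementaryAbelian 2 A) {a : G} (ha : a ∈ A) :
    a * a = 1 := by rw [← sq]; exact hA.2 a ha

theorem isFunctor (hG : ZCGroup G) {A : Subgroup G} (hA : IsElementaryAbelian 2 A)
    (h4 : 4 ≤ Nat.card A) : IsSolvableSignalizerFunctor 2 A (core : G → Subgroup G) :=
  haveI : Fact (Nat.Prime 2) := ⟨Nat.prime_two⟩
  S1279.result 2 A hA h4 fun _ ha ha1 => hG.solvable _ (orderOf_two ha1 (mul_self_of_mem hA ha))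

/-- `⟨O(C(a)) : a ∈ A, a ≠ 1⟩` -/
abbrev sigW (A : Subgroup G) : Subgroup G := signalizerClosure A (core : G → Subgroup G)

theorem core_le_sigW {A : Subgroup G} {a : G} (ha : a ∈ A) (ha1 : a ≠ 1) : core a ≤ sigW A :=
  le_iSup (fun b : {b : G // b ∈ A ∧ b ≠ 1} => core (b : G)) ⟨a, ha, ha1⟩

theorem sigW_le {A X : Subgroup G} (h : ∀ a ∈ A, a ≠ 1 → core a ≤ X) : sigW A ≤ X :=
  iSup_le fun b => h b b.2.1 b.2.2

theorem sigW_eq (hG : ZCGroup G) {A U : Subgroup G} (hA : Big A) (hU : U ≤ A)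
    (hU4 : 4 ≤ Nat.card U) : sigW U = sigW A := by
  haveI : Fact (Nat.Prime 2) := ⟨Nat.prime_two⟩
  have hA4 : 4 ≤ Nat.card A := le_trans (by norm_num) hA.2
  exact le_antisymm (sigW_le fun a ha ha1 => core_le_sigW (hU ha) ha1)
    (SignalizerSolvable.signalizerClosure_le hA.1 (isFunctor hG hA.1 hA4) hU hU4
      fun a ha ha1 => core_le_sigW ha ha1)

theorem odd_sigW (hG : ZCGroup G) {A : Subgroup G} (hA : Big A) : ¬ 2 ∣ Nat.card (sigW A) :=
  haveI : Fact (Nat.Prime 2) := ⟨Nat.prime_two⟩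
  (SignalizerSolvable.closure_of_solvable hA.1 hA.2
    (isFunctor hG hA.1 (le_trans (by norm_num) hA.2))).1

theorem sigW_map (A : Subgroup G) (g : G) :
    sigW (A.map (MulAut.conj g).toMonoidHom) = (sigW A).map (MulAut.conj g).toMonoidHom := by
  refine le_antisymm (sigW_le ?_) ?_
  · rintro _ ⟨a, ha, rfl⟩ ha1
    show core (g * a * g⁻¹) ≤ _
    rw [core_conj]
    exact map_mono (core_le_sigW ha fun e => ha1 (by rw [e, map_one]))
  · rw [map_le_iff_le_comap]
    refine sigW_le fun a ha ha1 => map_le_iff_le_comap.1 ?_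
    rw [← core_conj]
    exact core_le_sigW ⟨a, ha, rfl⟩ fun e => ha1 (conj_eq_one_iff.1 e)

/-- All big subgroups of `X` have the same completion. -/
def Linked (X : Subgroup G) : Prop :=
  ∀ A B : Subgroup G, A ≤ X → B ≤ X → Big A → Big B → sigW A = sigW B

theorem Linked.map {X : Subgroup G} (h : Linked X) (g : G) :
    Linked (X.map (MulAut.conj g).toMonoidHom) := by
  intro A B hA hB hA' hB'
  have back : ∀ {C : Subgroup G}, C ≤ X.map (MulAut.conj g).toMonoidHom →
      C.map (MulAut.conj g⁻¹).toMonoidHom ≤ X ∧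
        (C.map (MulAut.conj g⁻¹).toMonoidHom).map (MulAut.conj g).toMonoidHom = C := by
    intro C hC
    refine ⟨?_, ?_⟩
    · rintro _ ⟨y, hy, rfl⟩
      obtain ⟨x, hx, rfl⟩ := hC hy
      show g⁻¹ * (g * x * g⁻¹) * g⁻¹⁻¹ ∈ X
      simpa [mul_assoc] using hx
    · rw [map_map]
      convert map_id C
      ext x
      show g * (g⁻¹ * x * g⁻¹⁻¹) * g⁻¹ = x
      group
  have e := h _ _ (back hA).1 (back hB).1 (hA'.map g⁻¹) (hB'.map g⁻¹)
  rw [← (back hA).2, ← (back hB).2]
  rw [sigW_map (A.map (MulAut.conj g⁻¹).toMonoidHom) g,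
    sigW_map (B.map (MulAut.conj g⁻¹).toMonoidHom) g, e]

/-- A four-group central in `X` links. -/
theorem linked_of_central (hG : ZCGroup G) {X Z : Subgroup G}
    (hZ : IsElementaryAbelian 2 Z) (hZ4 : 4 ≤ Nat.card Z) (hc : X ≤ centralizer (Z : Set G)) :
    Linked X := by
  have key : ∀ A : Subgroup G, A ≤ X → Big A → sigW A = sigW Z := by
    intro A hA hA'
    have hB : Big (A ⊔ Z) := ⟨ElemAbelian.sup hA'.1 hZ (hA.trans hc),
      hA'.2.trans (card_le_of_le le_sup_left)⟩
    rw [sigW_eq hG hB le_sup_left (le_trans (by norm_num) hA'.2), sigW_eq hG hB le_sup_right hZ4]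
  exact fun A B hA hB hA' hB' => (key A hA hA').trans (key B hB hB').symm

/-- A normal four-group links. -/
theorem linked_of_normal (hG : ZCGroup G) {X E : Subgroup G} (hE : IsElementaryAbelian 2 E)
    (hE4 : Nat.card E = 4)
    (hmul : ∀ s ∈ X, ∀ t ∈ X, s ∉ centralizer (E : Set G) → t ∉ centralizer (E : Set G) →
      s * t ∈ centralizer (E : Set G)) :
    Linked X := by
  have key : ∀ A : Subgroup G, A ≤ X → Big A → sigW A = sigW E := by
    intro A hA hA'
    set A' := A ⊓ centralizer (E : Set G) with hA'def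
    have h4 : 4 ≤ Nat.card A' := by
      have h1 : Nat.card A ≤ 2 * Nat.card A' := card_le_two_mul inf_le_left fun s hs t ht hs' ht' =>
        ⟨mul_mem hs ht, hmul s (hA hs) t (hA ht) (fun h => hs' ⟨hs, h⟩) (fun h => ht' ⟨ht, h⟩)⟩
      have := hA'.2
      omega
    have hA'e : IsElementaryAbelian 2 A' := ElemAbelian.mono hA'.1 inf_le_left
    have hBe : IsElementaryAbelian 2 (A' ⊔ E) := ElemAbelian.sup hA'e hE inf_le_right
    have hB : Big (A' ⊔ E) := by
      refine ⟨hBe, ?_⟩
      by_cases hle : A' ≤ E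
      · exfalso
        have e : A' = E := eq_of_le_of_card_ge hle (hE4.le.trans h4)
        have hAC : A ≤ centralizer (E : Set G) := fun a ha => mem_centralizer_iff.2 fun u hu =>
          ElemAbelian.comm hA'.1 ((e.ge hu : u ∈ A').1) ha
        have h8 := hA'.2
        rw [show A = A' from (inf_eq_left.2 hAC).symm, e, hE4] at h8
        omega
      · obtain ⟨a, ha, haE⟩ := SetLike.not_le_iff_exists.1 hle
        have h1 := two_mul_card_le (le_sup_right : E ≤ A' ⊔ E) (mem_sup_left ha) haE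
        omega
    rw [← sigW_eq hG hA' inf_le_left h4, sigW_eq hG hB le_sup_left h4,
      sigW_eq hG hB le_sup_right hE4.ge]
  exact fun A B hA hB hA' hB' => (key A hA hA').trans (key B hB hB').symm

end Cfsg.Agent.Lib.ZC78
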