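import Cfsg.Agent.Lib.ZC78.Local
import Cfsg.Agent.S0111

/-!
# The two sources of strong embedding or characteristic 2 type
-/

set_option autoImplicit false

namespace Cfsg.Agent.Lib.ZC78

open Cfsg Subgroup
open Cfsg.Agent.Lib
open Cfsg.Agent.Lib.JComp (mem_omegaCenterOf le_of_le_sylowTwoIn exists_isSylowTwoIn_ge
  exists_conj_sylowTwoIn two_mul_card_le card_le_two_mul sq_conj)

variable {G : Type*} [Group G] [Finite G]

theorem isSylowTwoIn_sylow (S : Sylow 2 G) {X : Subgroup G} (h : (S : Subgroup G) ≤ X) :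
    IsSylowTwoIn (S : Subgroup G) X := by
  haveI : Fact (Nat.Prime 2) := ⟨Nat.prime_two⟩
  refine ⟨h, S.isPGroup', ?_⟩
  refine Odd.of_dvd_nat (n := (S : Subgroup G).index) ?_ ⟨_, (relIndex_mul_index h).symm⟩
  rw [← Nat.not_even_iff_odd, even_iff_two_dvd]
  exact S.not_dvd_index

omit [Finite G] in
theorem orderOf_conj (g t : G) : orderOf (g * t * g⁻¹) = orderOf t :=
  orderOf_injective (MulAut.conj g).toMonoidHom (MulAut.conj g).injective t

theorem linked_of_sylow {S : Sylow 2 G} (h : Linked (S : Subgroup G)) (S' : Sylow 2 G) :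
    Linked (S' : Subgroup G) := by
  haveI : Fact (Nat.Prime 2) := ⟨Nat.prime_two⟩
  obtain ⟨g, rfl⟩ := MulAction.exists_smul_eq G S S'
  exact h.map g

/-- `t` lies in a big subgroup of `X`. -/
def Covered (X : Subgroup G) (t : G) : Prop := ∃ A : Subgroup G, Big A ∧ A ≤ X ∧ t ∈ A

/-- The linked case. -/
theorem linked_se_or_charTwo (hG : ZCGroup G) (hO' : pPrimeCore 2 G = ⊥) (S : Sylow 2 G)
    (hl : Linked (S : Subgroup G)) {A₀ : Subgroup G} (hA₀ : Big A₀) (hA₀S : A₀ ≤ (S : Subgroup G))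
    {z : G} (hzS : z ∈ (S : Subgroup G)) (hzc : z ∈ centralizer ((S : Subgroup G) : Set G))
    (hz : orderOf z = 2)
    (hzcov : ∀ g : G, g * z * g⁻¹ ∈ (S : Subgroup G) → Covered (S : Subgroup G) (g * z * g⁻¹))
    (K : Subgroup G) [K.Normal] (hHK : pResidual 2 G ≤ K)
    {t₀ : G} (ht₀S : t₀ ∈ (S : Subgroup G)) (ht₀H : t₀ ∈ pResidual 2 G) (ht₀ : orderOf t₀ = 2)
    (hcov : ∀ t ∈ (S : Subgroup G), t ∈ K → orderOf t = 2 →
      ∃ g : G, g * t * g⁻¹ ∈ (S : Subgroup G) ∧ Covered (S : Subgroup G) (g * t * g⁻¹)) :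
    (∃ M : Subgroup (pResidual 2 G), IsStronglyEmbedded M) ∨ IsCharacteristicTwoType K := by
  haveI : Fact (Nat.Prime 2) := ⟨Nat.prime_two⟩
  have hlAll := linked_of_sylow hl
  set W := sigW A₀ with hWdef
  have hWA : ∀ A : Subgroup G, Big A → A ≤ (S : Subgroup G) → sigW A = W := fun A hA hAS =>
    hl A A₀ hAS hA₀S hA hA₀
  by_cases hW : W = ⊥
  · refine Or.inr (charTwo_of_cores hG K ?_ fun t ht hto => ?_)
    · rw [even_iff_two_dvd, ← ht₀, ← Subgroup.orderOf_mk t₀ (hHK ht₀H)]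
      exact orderOf_dvd_natCard _
    obtain ⟨m, -, hm⟩ := exists_conj_mem S (le_top : (S : Subgroup G) ≤ ⊤) (mem_top t) hto
    obtain ⟨g, -, A, hA, hAS, hgA⟩ := hcov _ hm (Normal.conj_mem inferInstance _ ht m)
      ((orderOf_conj m t).trans hto)
    have hne : g * (m * t * m⁻¹) * g⁻¹ ≠ 1 :=
      ne_one_of_orderOf_two (((orderOf_conj g _).trans (orderOf_conj m t)).trans hto)
    have h0 : core (g * (m * t * m⁻¹) * g⁻¹) = ⊥ :=
      le_bot_iff.1 ((core_le_sigW hgA hne).trans ((hWA A hA hAS).le.trans hW.le))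
    rwa [core_conj, core_conj, map_eq_bot_iff_of_injective _ (MulAut.conj g).injective,
      map_eq_bot_iff_of_injective _ (MulAut.conj m).injective] at h0
  left
  set M := normalizer (W : Set G) with hM
  have hSM : (S : Subgroup G) ≤ M := fun s hs => by
    have h1 := hWA _ (hA₀.map s) ((map_mono hA₀S).trans
      (mem_normalizer_iff_map_conj_eq.1 (le_normalizer hs)).le)
    rw [sigW_map] at h1
    exact mem_normalizer_iff_map_conj_eq.2 h1
  have hB : ∀ B : Subgroup G, Big B → B ≤ M → sigW B = W := by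
    intro B hB hBM
    obtain ⟨T, hT, hBT⟩ := exists_isSylowTwoIn_ge hBM (ElemAbelian.isPGroup hB.1)
    obtain ⟨m, hm, e⟩ := exists_conj_sylowTwoIn hT (isSylowTwoIn_sylow S hSM)
    have h1 := hWA _ (hB.map m) ((map_mono hBT).trans e.le)
    rw [sigW_map] at h1
    exact Subgroup.map_injective (MulAut.conj m).injective
      (h1.trans (mem_normalizer_iff_map_conj_eq.1 hm).symm)
  have hcM : ∀ t : G, orderOf t = 2 → Covered (S : Subgroup G) t →
      centralizer ({t} : Set G) ≤ M := fun t ht ⟨A, hA, hAS, htA⟩ => by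
    have := centralizer_le_normalizer_sigW hG hlAll hA htA (ne_one_of_orderOf_two ht)
    rwa [hWA A hA hAS] at this
  have hff : ∀ t g : G, orderOf t = 2 → Covered (S : Subgroup G) t →
      Covered (S : Subgroup G) (g * t * g⁻¹) → g ∈ M := by
    rintro t g ht hct ⟨A, hA, hAS, hgA⟩
    have hle : A.map (MulAut.conj g⁻¹).toMonoidHom ≤ centralizer ({t} : Set G) := by
      rintro _ ⟨a, ha, rfl⟩
      refine mem_centralizer_singleton_iff.2 ?_
      show g⁻¹ * a * g⁻¹⁻¹ * t = t * (g⁻¹ * a * g⁻¹⁻¹)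
      have h := ElemAbelian.comm hA.1 ha hgA
      calc g⁻¹ * a * g⁻¹⁻¹ * t = g⁻¹ * (a * (g * t * g⁻¹)) * g := by group
        _ = t * (g⁻¹ * a * g⁻¹⁻¹) := by rw [h]; group
    have h1 := hB _ (hA.map g⁻¹) (hle.trans (hcM t ht hct))
    rw [sigW_map, hWA A hA hAS] at h1
    exact inv_mem_iff.1 (mem_normalizer_iff_map_conj_eq.2 h1 : g⁻¹ ∈ M)
  have hzf : ∀ t ∈ (S : Subgroup G), orderOf t = 2 → ∀ g : G,
      Covered (S : Subgroup G) (g * t * g⁻¹) → g ∈ M := by
    intro t htS hto g hcg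
    have h1 : g * z * g⁻¹ ∈ M := hcM _ ((orderOf_conj g t).trans hto) hcg <| by
      refine mem_centralizer_singleton_iff.2 ?_
      have h : t * z = z * t := mem_centralizer_iff.1 hzc t htS
      calc g * z * g⁻¹ * (g * t * g⁻¹) = g * (z * t) * g⁻¹ := by group
        _ = g * t * g⁻¹ * (g * z * g⁻¹) := by rw [← h]; group
    obtain ⟨m, hm, hmS⟩ := exists_conj_mem S hSM h1 ((orderOf_conj g z).trans hz)
    have e : m * (g * z * g⁻¹) * m⁻¹ = (m * g) * z * (m * g)⁻¹ := by group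
    rw [e] at hmS
    have h1z : Covered (S : Subgroup G) z := by simpa using hzcov 1 (by simpa using hzS)
    exact (mul_mem_cancel_left hm).1 (hff z (m * g) hz h1z (hzcov _ hmS))
  refine se_of_fusion S hSM (normalizer_ne_top hO' (odd_sigW hG hA₀) hW) ht₀S ht₀H ht₀ ?_
  intro t htS htH hto g hg
  haveI : (pResidual 2 G).Normal := pResidual_normal'
  obtain ⟨g₁, -, hc₁⟩ := hcov t htS (hHK htH) hto
  obtain ⟨g₂, -, hc₂⟩ := hcov _ hg (hHK (Normal.conj_mem inferInstance _ htH g))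
    ((orderOf_conj g t).trans hto)
  have hg₁ : g₁ ∈ M := hzf t htS hto g₁ hc₁
  have hg₂ : g₂ ∈ M := hzf _ hg ((orderOf_conj g t).trans hto) g₂ hc₂
  have hmid : g₂ * g * g₁⁻¹ ∈ M := hff (g₁ * t * g₁⁻¹) _ ((orderOf_conj g₁ t).trans hto) hc₁ (by
    rwa [show g₂ * g * g₁⁻¹ * (g₁ * t * g₁⁻¹) * (g₂ * g * g₁⁻¹)⁻¹
      = g₂ * (g * t * g⁻¹) * g₂⁻¹ by group])
  have := M.mul_mem (M.mul_mem (M.inv_mem hg₂) hmid) hg₁
  rwa [show g₂⁻¹ * (g₂ * g * g₁⁻¹) * g₁ = g by group] at this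

/-- When `Ω₁(Z(S)) = ⟨z⟩`, `C(z)` normalises `S`. -/
theorem centralizer_le_of_eq (hG : ZCGroup G) (S : Sylow 2 G) {z : G}
    (hzZ : omegaCenterOf (S : Subgroup G) = zpowers z) :
    centralizer ({z} : Set G) ≤ normalizer ((S : Subgroup G) : Set G) := by
  have h := hG.centralizer_le S
  rwa [hzZ, zpowers_eq_closure, centralizer_closure] at h

theorem le_sylow_of_centralizer (hG : ZCGroup G) (S : Sylow 2 G) {z : G}
    (hzZ : omegaCenterOf (S : Subgroup G) = zpowers z) {Q : Subgroup G} (hQ : IsPGroup 2 Q)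
    (hQc : Q ≤ centralizer ({z} : Set G)) : Q ≤ (S : Subgroup G) :=
  le_of_le_sylowTwoIn (isSylowTwoIn_sylow S le_top) le_top hQ
    (hQc.trans (centralizer_le_of_eq hG S hzZ))

/-- `O(C(z))` centralises `S` when `C(z)` normalises `S`. -/
theorem core_le_centralizer (hG : ZCGroup G) (S : Sylow 2 G) {z : G}
    (hzZ : omegaCenterOf (S : Subgroup G) = zpowers z) :
    core z ≤ centralizer ((S : Subgroup G) : Set G) := by
  haveI : Fact (Nat.Prime 2) := ⟨Nat.prime_two⟩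
  obtain ⟨-, hzc, -⟩ := mem_omegaCenterOf.1 (hzZ.ge (mem_zpowers z))
  intro x hx
  refine mem_centralizer_iff.2 fun s hs => ?_
  have hxC : x ∈ centralizer ({z} : Set G) := map_subtype_le _ hx
  have hsz : s * z * s⁻¹ = z := mul_inv_eq_iff_eq_mul.2 (mem_centralizer_iff.1 hzc s hs)
  have h1 : s * x⁻¹ * s⁻¹ ∈ core z := by
    have := mem_map_of_mem (MulAut.conj s).toMonoidHom (inv_mem hx)
    rwa [← core_conj, hsz] at this
  have h2 : x * (s * x⁻¹ * s⁻¹) ∈ (core z : Subgroup G) ⊓ (S : Subgroup G) := by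
    refine ⟨mul_mem hx h1, ?_⟩
    have h3 : x * s * x⁻¹ ∈ (S : Subgroup G) :=
      (mem_normalizer_iff.1 (centralizer_le_of_eq hG S hzZ hxC) s).1 hs
    rw [show x * (s * x⁻¹ * s⁻¹) = x * s * x⁻¹ * s⁻¹ by group]
    exact mul_mem h3 ((S : Subgroup G).inv_mem hs)
  have h4 : Nat.Coprime (Nat.card (core z)) (Nat.card (S : Subgroup G)) := by
    obtain ⟨k, hk⟩ := IsPGroup.iff_card.1 S.isPGroup'
    rw [hk]
    exact ((Nat.prime_two.coprime_iff_not_dvd.2 (odd_core z)).symm).pow_right k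
  rw [inf_eq_bot_of_coprime h4, mem_bot] at h2
  calc s * x = x * (s * x⁻¹ * s⁻¹) * (s * x) := by rw [h2, one_mul]
    _ = x * s := by group

/-- The fused case. -/
theorem fused_se_or_charTwo (hG : ZCGroup G) (hO' : pPrimeCore 2 G = ⊥) (S : Sylow 2 G) {z : G}
    (hzZ : omegaCenterOf (S : Subgroup G) = zpowers z) (hz : orderOf z = 2)
    (hzH : z ∈ pResidual 2 G)
    (hf : ∀ t ∈ (S : Subgroup G), t ∈ pResidual 2 G → orderOf t = 2 → ∃ g : G, g * z * g⁻¹ = t) :
    (∃ M : Subgroup (pResidual 2 G), IsStronglyEmbedded M) ∨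
      IsCharacteristicTwoType (pResidual 2 G) := by
  haveI : Fact (Nat.Prime 2) := ⟨Nat.prime_two⟩
  haveI : (pResidual 2 G).Normal := pResidual_normal'
  obtain ⟨hzS, hzc, -⟩ := mem_omegaCenterOf.1 (hzZ.ge (mem_zpowers z))
  set X := core z with hX
  have hcore : ∀ t ∈ (S : Subgroup G), t ∈ pResidual 2 G → orderOf t = 2 → core t = X := by
    intro t htS htH hto
    obtain ⟨g, hg⟩ := hf t htS htH hto
    have hle : X ≤ core t := fun x hx => by
      refine balance hG (sq_of_orderOf_two hz) hto (mem_centralizer_iff.1 hzc t htS).symm ⟨hx, ?_⟩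
      exact mem_centralizer_singleton_iff.2
        (mem_centralizer_iff.1 (core_le_centralizer hG S hzZ hx) t htS).symm
    refine (eq_of_le_of_card_ge hle ?_).symm
    rw [← hg, core_conj, card_map_of_injective (MulAut.conj g).injective]
  by_cases hX1 : X = ⊥
  · refine Or.inr (charTwo_of_cores hG _ ?_ fun t ht hto => ?_)
    · rw [even_iff_two_dvd]
      have h := orderOf_dvd_natCard (⟨z, hzH⟩ : ↥(pResidual 2 G))
      rwa [Subgroup.orderOf_mk, hz] at h
    obtain ⟨m, -, hm⟩ := exists_conj_mem S (le_top : (S : Subgroup G) ≤ ⊤) (mem_top t) hto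
    have h0 := hcore _ hm (Normal.conj_mem inferInstance _ ht m) ((orderOf_conj m t).trans hto)
    rw [hX1, core_conj, map_eq_bot_iff_of_injective _ (MulAut.conj m).injective] at h0
    exact h0
  left
  have hSM : (S : Subgroup G) ≤ normalizer (X : Set G) := fun s hs => by
    refine mem_normalizer_iff_map_conj_eq.2 ?_
    refine (core_conj s z).symm.trans ?_
    rw [mul_inv_eq_iff_eq_mul.2 (mem_centralizer_iff.1 hzc s hs)]
  refine se_of_fusion S hSM (normalizer_ne_top hO' (odd_core z) hX1) hzS hzH hz ?_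
  intro t htS htH hto g hg
  refine mem_normalizer_iff_map_conj_eq.2 ?_
  have h1 := hcore _ hg (Normal.conj_mem inferInstance _ htH g) ((orderOf_conj g t).trans hto)
  rwa [core_conj, hcore t htS htH hto] at h1

/-- If all involutions of a subgroup of index two of `S` are conjugate to `z`, so are all
involutions of `S ∩ O²(G)`. -/
theorem fused_of_half (S : Sylow 2 G) {z : G} {Q : Subgroup G} (hQS : Q ≤ (S : Subgroup G))
    (hQi : Q.relIndex (S : Subgroup G) = 2)
    (hQ : ∀ q ∈ Q, orderOf q = 2 → ∃ g : G, g * z * g⁻¹ = q) :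
    ∀ t ∈ (S : Subgroup G), t ∈ pResidual 2 G → orderOf t = 2 → ∃ g : G, g * z * g⁻¹ = t := by
  intro t htS htH hto
  by_cases htQ : t ∈ Q
  · exact hQ t htQ hto
  rcases S0111.result S Q hQS hQi t hto htS htQ with ⟨M, -, hM, htM⟩ | ⟨g, hg⟩
  · exact absurd (le_pResidual_of_index_two hM htH) htM
  · obtain ⟨h, hh⟩ := hQ _ hg ((orderOf_conj g t).trans hto)
    exact ⟨g⁻¹ * h, by
      rw [show g⁻¹ * h * z * (g⁻¹ * h)⁻¹ = g⁻¹ * (h * z * h⁻¹) * g by group, hh]; group⟩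

/-- A conjugate `x` of `z` outside a subgroup of index two, with no involution but `z` centralised
there, has centralizer of order four in `S`. -/
theorem card_eq_four (hG : ZCGroup G) (S : Sylow 2 G) {z : G}
    (hzZ : omegaCenterOf (S : Subgroup G) = zpowers z) (hz : orderOf z = 2) {g x : G}
    (hgx : g * z * g⁻¹ = x) (hxS : x ∈ (S : Subgroup G)) (hxz : x ≠ z) {C₀ : Subgroup G}
    (hmul : ∀ a ∈ (S : Subgroup G), ∀ b ∈ (S : Subgroup G), a ∉ C₀ → b ∉ C₀ → a * b ∈ C₀)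
    (hxC₀ : x ∉ C₀)
    (huniq : ∀ y ∈ C₀, y ∈ (S : Subgroup G) → y * x = x * y → y * y = 1 → y = 1 ∨ y = z) :
    Nat.card ↥((S : Subgroup G) ⊓ centralizer ({x} : Set G)) = 4 := by
  haveI : Fact (Nat.Prime 2) := ⟨Nat.prime_two⟩
  set P := (S : Subgroup G) ⊓ centralizer ({x} : Set G) with hP
  obtain ⟨hzS, hzc, -⟩ := mem_omegaCenterOf.1 (hzZ.ge (mem_zpowers z))
  have hzcom : ∀ s ∈ (S : Subgroup G), s * z = z * s := fun s hs => mem_centralizer_iff.1 hzc s hs
  have hz2 := sq_of_orderOf_two hz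
  have hz1 := ne_one_of_orderOf_two hz
  have hxo : orderOf x = 2 := hgx ▸ (orderOf_conj g z).trans hz
  have hx2 := sq_of_orderOf_two hxo
  have hx1 := ne_one_of_orderOf_two hxo
  have hxP : x ∈ P := ⟨hxS, mem_centralizer_singleton_iff.2 rfl⟩
  have hzP : z ∈ P := ⟨hzS, mem_centralizer_singleton_iff.2 (hzcom x hxS).symm⟩
  have hcomm : ∀ p ∈ P, p * x = x * p := fun p hp => mem_centralizer_singleton_iff.1 hp.2
  have hzC₀ : z ∈ C₀ := by
    by_contra h
    rcases huniq (x * z) (hmul x hxS z hzS hxC₀ h) (mul_mem hxS hzS)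
      (by rw [mul_assoc, ← hzcom x hxS])
      (by rw [mul_assoc, ← mul_assoc z, ← hzcom x hxS, mul_assoc x z z, hz2, mul_one, hx2])
      with e | e
    · exact hxz (by rw [← mul_one x, ← hz2, ← mul_assoc, e, one_mul])
    · exact hx1 (mul_eq_right.1 e)
  have hsq : ∀ p ∈ P, ∃ c, c ∈ C₀ ⊓ P ∧ c * c = p * p := by
    intro p hp
    by_cases hpC : p ∈ C₀
    · exact ⟨p, ⟨hpC, hp⟩, rfl⟩
    refine ⟨p * x, ⟨hmul p hp.1 x hxS hpC hxC₀, mul_mem hp hxP⟩, ?_⟩
    calc p * x * (p * x) = p * (x * p) * x := by group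
      _ = p * p * (x * x) := by rw [← hcomm p hp]; group
      _ = p * p := by rw [hx2, mul_one]
  suffices hC : C₀ ⊓ P ≤ zpowers z by
    have h1 : Nat.card P ≤ 2 * Nat.card ↥(C₀ ⊓ P) := card_le_two_mul inf_le_right
      fun a ha b hb ha' hb' => ⟨hmul a ha.1 b hb.1 (fun h => ha' ⟨h, ha⟩) (fun h => hb' ⟨h, hb⟩),
        mul_mem ha hb⟩
    have h2 := card_le_of_le hC
    rw [Nat.card_zpowers, hz] at h2
    have h3 := (four_pair hz2 hx2 hz1 hx1 (Ne.symm hxz) (hzcom x hxS).symm).2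
    have h4 := h3.trans (card_le_of_le (sup_le (zpowers_le.2 hzP) (zpowers_le.2 hxP)))
    omega
  by_contra hne
  obtain ⟨c, hc, hcz⟩ := SetLike.not_le_iff_exists.1 hne
  -- `z` is a square
  obtain ⟨d, hd, hdd⟩ : ∃ d ∈ C₀ ⊓ P, d * d = z := by
    have hcc : c * c ≠ 1 := fun e => by
      rcases huniq c hc.1 hc.2.1 (hcomm c hc.2) e with rfl | rfl
      · exact hcz (one_mem _)
      · exact hcz (mem_zpowers _)
    have hP2 : IsPGroup 2 (zpowers (c * c)) :=
      S.isPGroup'.to_le (zpowers_le.2 (mul_mem hc.2.1 hc.2.1))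
    obtain ⟨k, hk⟩ := IsPGroup.iff_card.1 hP2
    have hk0 : k ≠ 0 := by
      rintro rfl
      rw [Nat.card_zpowers, pow_zero, orderOf_eq_one_iff] at hk
      exact hcc hk
    obtain ⟨⟨_, i, rfl⟩, he⟩ := exists_prime_orderOf_dvd_card' (G := zpowers (c * c)) 2
      (hk ▸ dvd_pow_self 2 hk0)
    rw [← Subgroup.orderOf_coe] at he
    change orderOf ((c * c) ^ i) = 2 at he
    have hi : c ^ i ∈ C₀ ⊓ P := zpow_mem hc i
    have hpow : (c * c) ^ i = c ^ i * c ^ i := (Commute.refl c).mul_zpow i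
    rw [hpow] at he
    refine ⟨c ^ i, hi, ?_⟩
    exact (huniq _ (mul_mem hi.1 hi.1) (mul_mem hi.2.1 hi.2.1) (hcomm _ (mul_mem hi.2 hi.2))
      (sq_of_orderOf_two he)).resolve_left (ne_one_of_orderOf_two he)
  -- a larger 2-group in `C(x)`
  obtain ⟨T, hT, hPT⟩ := exists_isSylowTwoIn_ge (P := P) inf_le_right
    (S.isPGroup'.to_le inf_le_left)
  have hgS : IsSylowTwoIn ((S : Subgroup G).map (MulAut.conj g).toMonoidHom)
      (centralizer ({x} : Set G)) := by
    refine isSylowTwoIn_sylow (g • S) ?_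
    show (S : Subgroup G).map (MulAut.conj g).toMonoidHom ≤ _
    rintro _ ⟨s, hs, rfl⟩
    refine mem_centralizer_singleton_iff.2 ?_
    rw [← hgx]
    show g * s * g⁻¹ * (g * z * g⁻¹) = g * z * g⁻¹ * (g * s * g⁻¹)
    calc g * s * g⁻¹ * (g * z * g⁻¹) = g * (s * z) * g⁻¹ := by group
      _ = g * z * g⁻¹ * (g * s * g⁻¹) := by rw [hzcom s hs]; group
  have hTcard : Nat.card T = Nat.card (S : Subgroup G) := by
    obtain ⟨m, -, e⟩ := exists_conj_sylowTwoIn hT hgS
    exact (card_map_of_injective (f := (MulAut.conj m).toMonoidHom) (MulAut.conj m).injective).symm.trans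
      ((congrArg (fun X : Subgroup G => Nat.card X) e).trans
        (card_map_of_injective (f := (MulAut.conj g).toMonoidHom) (MulAut.conj g).injective))
  have hPne : ¬ T ≤ P := by
    intro hle
    have hPS : P = (S : Subgroup G) :=
      eq_of_le_of_card_ge inf_le_left (hTcard ▸ card_le_of_le hle)
    have hxZ : x ∈ omegaCenterOf (S : Subgroup G) := mem_omegaCenterOf.2
      ⟨hxS, mem_centralizer_iff.2 fun s hs => hcomm s (hPS.ge hs), by rw [sq, hx2]⟩
    rw [hzZ] at hxZ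
    exact (JComp.eq_one_or_eq_of_mem_zpowers hz2 hxZ).elim hx1 hxz
  haveI := hT.2.1.isNilpotent
  have hlt : P.subgroupOf T < ⊤ := lt_top_iff_ne_top.2 fun h => hPne (subgroupOf_eq_top.1 h)
  obtain ⟨u, hu, hu'⟩ := SetLike.exists_of_lt (Group.normalizerCondition_of_isNilpotent _ hlt)
  refine hu' (mem_subgroupOf.2 ?_)
  have hnd : (u : G) * d * (u : G)⁻¹ ∈ P :=
    mem_subgroupOf.1 ((mem_normalizer_iff.1 hu ⟨d, hPT hd.2⟩).1 (mem_subgroupOf.2 hd.2))
  obtain ⟨c', hc', hcc'⟩ := hsq _ hnd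
  have hnz : c' * c' = (u : G) * z * (u : G)⁻¹ := by rw [hcc', ← hdd]; group
  have huz : (u : G) * z * (u : G)⁻¹ = z := by
    rw [← hnz]
    refine (huniq _ (mul_mem hc'.1 hc'.1) (mul_mem hc'.2.1 hc'.2.1)
      (hcomm _ (mul_mem hc'.2 hc'.2)) (hnz ▸ sq_conj hz2)).resolve_left ?_
    rw [hnz]
    exact ne_one_of_orderOf_two ((orderOf_conj _ z).trans hz)
  refine ⟨le_sylow_of_centralizer hG S hzZ
    (hT.2.1.to_le (zpowers_le.2 u.2)) (zpowers_le.2 ?_) (mem_zpowers _), hT.1 u.2⟩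
  exact mem_centralizer_singleton_iff.2 (mul_inv_eq_iff_eq_mul.1 huz)

end Cfsg.Agent.Lib.ZC78
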