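import Cfsg.Agent.Lib.ZC78.Basic
import Cfsg.Agent.Lib.PUnique.Basic
import Cfsg.Agent.S0519

/-!
# Two facts about finite 2-groups
-/

set_option autoImplicit false

namespace Cfsg.Agent.Lib.ZC78

open Cfsg Subgroup
open Cfsg.Agent.Lib
open Cfsg.Agent.Lib.JComp (two_mul_card_le card_le_two_mul eq_one_or_eq_of_mem_zpowers)

variable {T : Type*} [Group T] [Finite T]

theorem exists_index_two_ge (hT : IsPGroup 2 T) {P : Subgroup T} (hP : P ≠ ⊤) :
    ∃ M : Subgroup T, P ≤ M ∧ M.index = 2 := by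
  haveI : Fact (Nat.Prime 2) := ⟨Nat.prime_two⟩
  obtain ⟨k, hk⟩ := IsPGroup.iff_card.1 hT
  obtain ⟨n, hn⟩ := IsPGroup.iff_card.1 (hT.to_subgroup P)
  have hlt : n < k := by
    have h1 : Nat.card P < Nat.card T := by
      refine lt_of_le_of_ne (card_le_card_group P) fun e => hP (eq_top_of_card_eq P e)
    rw [hn, hk] at h1
    exact (Nat.pow_lt_pow_iff_right (by norm_num)).1 h1
  obtain ⟨M, hM, hPM⟩ := Sylow.exists_subgroup_card_pow_prime_le 2
    (hk ▸ pow_dvd_pow 2 (Nat.sub_le k 1)) P hn (by omega)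
  refine ⟨M, hPM, Nat.eq_of_mul_eq_mul_left (show 0 < 2 ^ (k - 1) by positivity) ?_⟩
  rw [← hM, M.card_mul_index, hk, hM, ← pow_succ, Nat.sub_add_cancel (by omega)]

theorem mem_pair {a b : T} (ha : a * a = 1) (hb : b * b = 1) (hab : a * b = b * a) {u : T}
    (hu : u ∈ zpowers a ⊔ zpowers b) : u = 1 ∨ u = a ∨ u = b ∨ u = a * b := by
  have hle : zpowers a ≤ normalizer (zpowers b : Set T) := by
    rw [zpowers_le]
    refine centralizer_le_normalizer _ ?_
    rw [zpowers_eq_closure, centralizer_closure]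
    exact mem_centralizer_singleton_iff.2 hab
  rw [← SetLike.mem_coe, coe_mul_of_left_le_normalizer_right _ _ hle] at hu
  obtain ⟨v, hv, w, hw, rfl⟩ := hu
  rcases eq_one_or_eq_of_mem_zpowers ha hv with rfl | rfl <;>
    rcases eq_one_or_eq_of_mem_zpowers hb hw with rfl | rfl <;> simp

/-- A 2-group with an involution `x` whose centralizer has order four: some subgroup of index two
contains only involutions which are central or conjugate to `x`. -/
theorem exists_half (hT : IsPGroup 2 T) {z x : T} (hz : orderOf z = 2)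
    (hzc : ∀ s, s * z = z * s) (hx : orderOf x = 2) (hxz : x ≠ z) (hnc : ∃ s, s * x ≠ x * s)
    (hC : Nat.card (centralizer ({x} : Set T)) = 4) :
    ∃ Q : Subgroup T, Q.index = 2 ∧
      ∀ q ∈ Q, orderOf q = 2 → q = z ∨ ∃ s, s * x * s⁻¹ = q := by
  set C := centralizer ({x} : Set T) with hCdef
  have hz2 := sq_of_orderOf_two hz
  have hz1 := ne_one_of_orderOf_two hz
  have hx2 := sq_of_orderOf_two hx
  have hx1 := ne_one_of_orderOf_two hx
  have hxC : x ∈ C := mem_centralizer_singleton_iff.2 rfl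
  have hzC : z ∈ C := mem_centralizer_singleton_iff.2 (hzc x).symm
  have hCeq : zpowers z ⊔ zpowers x = C :=
    eq_of_le_of_card_ge (sup_le (zpowers_le.2 hzC) (zpowers_le.2 hxC))
      (hC.le.trans (four_pair hz2 hx2 hz1 hx1 (Ne.symm hxz) (hzc x).symm).2)
  have hCmem : ∀ u ∈ C, u = 1 ∨ u = z ∨ u = x ∨ u = z * x := fun u hu =>
    mem_pair hz2 hx2 (hzc x).symm (hCeq.ge hu)
  have hCne : C ≠ ⊤ := fun e => by
    obtain ⟨s, hs⟩ := hnc
    exact hs (mem_centralizer_singleton_iff.1 (e.ge (mem_top s)))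
  obtain ⟨M₂, hCM, hM₂⟩ := exists_index_two_ge hT hCne
  obtain ⟨s₀, hs₀⟩ : ∃ s, s ∉ M₂ := by
    by_contra h
    push_neg at h
    rw [show M₂ = ⊤ from eq_top_iff.2 fun s _ => h s, index_top] at hM₂
    norm_num at hM₂
  have hs₀ne : zpowers s₀ ≠ ⊤ := fun e => by
    obtain ⟨s, hs⟩ := hnc
    obtain ⟨i, rfl⟩ := (e.ge (mem_top s) : s ∈ zpowers s₀)
    obtain ⟨j, rfl⟩ := (e.ge (mem_top x) : x ∈ zpowers s₀)
    exact hs (Commute.zpow_zpow_self s₀ i j).eq
  obtain ⟨M₃, hsM, hM₃⟩ := exists_index_two_ge hT hs₀ne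
  set D := M₂ ⊓ M₃ with hD
  -- the commutators `[s, x]`
  have hcom : ∀ {M : Subgroup T}, M.index = 2 → ∀ s, s * x * s⁻¹ * x⁻¹ ∈ M := by
    intro M hM s
    simp only [mul_mem_iff_of_index_two hM, inv_mem_iff]
    tauto
  have hf : ∀ s, s * x * s⁻¹ * x⁻¹ ∈ D := fun s => ⟨hcom hM₂ s, hcom hM₃ s⟩
  have hne : ¬ M₂ ≤ M₃ := by
    intro hle
    have h1 := M₂.card_mul_index
    have h2 := M₃.card_mul_index
    rw [hM₂] at h1
    rw [hM₃] at h2
    exact hs₀ ((eq_of_le_of_card_ge hle (by omega)).ge (hsM (mem_zpowers s₀)))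
  obtain ⟨a, ha, ha'⟩ := SetLike.not_le_iff_exists.1 hne
  have hcardD : Nat.card D ≤ Nat.card (T ⧸ C) := by
    have h1 := M₂.card_mul_index
    have h2 := C.card_mul_index
    rw [hM₂] at h1
    rw [hC, index_eq_card] at h2
    have h3 : 2 * Nat.card D ≤ Nat.card M₂ :=
      two_mul_card_le (inf_le_left : D ≤ M₂) ha fun h => ha' h.2
    omega
  let f : T ⧸ C → D := fun q => ⟨q.out * x * q.out⁻¹ * x⁻¹, hf _⟩
  have hfi : Function.Injective f := by
    intro q r e
    have h : q.out * x * q.out⁻¹ = r.out * x * r.out⁻¹ :=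
      mul_right_cancel (congrArg Subtype.val e)
    rw [← QuotientGroup.out_eq' q, ← QuotientGroup.out_eq' r, QuotientGroup.eq]
    refine mem_centralizer_singleton_iff.2 ?_
    calc q.out⁻¹ * r.out * x = q.out⁻¹ * (r.out * x * r.out⁻¹) * r.out := by group
      _ = x * (q.out⁻¹ * r.out) := by rw [← h]; group
  have hsurj : ∀ d ∈ D, ∃ s, s * x * s⁻¹ * x⁻¹ = d := fun d hd => by
    obtain ⟨q, hq⟩ := (hfi.bijective_of_nat_card_le hcardD).2 ⟨d, hd⟩
    exact ⟨q.out, congrArg Subtype.val hq⟩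
  have hxD : x ∉ D := fun h => by
    obtain ⟨s, hs⟩ := hsurj x h
    rw [mul_inv_eq_iff_eq_mul, hx2] at hs
    exact hx1 (conj_eq_one_iff.1 hs)
  have hxM₃ : x ∉ M₃ := fun h => hxD ⟨hCM hxC, h⟩
  have hzD : z ∈ D := by
    haveI := hT.isNilpotent
    obtain ⟨u, hu, hu'⟩ := SetLike.exists_of_lt
      (Group.normalizerCondition_of_isNilpotent C (lt_top_iff_ne_top.2 hCne))
    have hux : u * x * u⁻¹ ≠ x := fun e =>
      hu' (mem_centralizer_singleton_iff.2 (mul_inv_eq_iff_eq_mul.1 e))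
    rcases hCmem _ ((mem_normalizer_iff.1 hu x).1 hxC) with e | e | e | e
    · exact absurd (conj_eq_one_iff.1 e) hx1
    · refine absurd ?_ hxz
      calc x = u⁻¹ * (u * x * u⁻¹) * u := by group
        _ = u⁻¹ * (z * u) := by rw [e, mul_assoc]
        _ = z := by rw [← hzc u, inv_mul_cancel_left]
    · exact absurd e hux
    · have := hf u
      rwa [e, mul_inv_cancel_right] at this
  refine ⟨M₂, hM₂, fun q hq hqo => ?_⟩
  have hq2 := sq_of_orderOf_two hqo
  by_cases hq3 : q ∈ M₃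
  · left
    obtain ⟨s, hs⟩ := hsurj q ⟨hq, hq3⟩
    rw [mul_inv_eq_iff_eq_mul] at hs
    have hqx : (q * x) * (q * x) = 1 := hs ▸ (by
      calc s * x * s⁻¹ * (s * x * s⁻¹) = s * (x * x) * s⁻¹ := by group
        _ = 1 := by rw [hx2, mul_one, mul_inv_cancel] : s * x * s⁻¹ * (s * x * s⁻¹) = 1)
    have hcomm : q * x = x * q := by
      calc q * x = (q * x)⁻¹ := (inv_eq_of_mul_eq_one_right hqx).symm
        _ = x * q := by
          rw [mul_inv_rev, inv_eq_of_mul_eq_one_right hx2, inv_eq_of_mul_eq_one_right hq2]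
    rcases hCmem q (mem_centralizer_singleton_iff.2 hcomm) with rfl | rfl | rfl | rfl
    · exact absurd hqo (by simp)
    · rfl
    · exact absurd hq3 hxM₃
    · exact absurd ((M₃.mul_mem_cancel_left hzD.2).1 hq3) hxM₃
  · right
    have h : q * x ∈ D := ⟨mul_mem hq (hCM hxC),
      (mul_mem_iff_of_index_two hM₃).2 (iff_of_false hq3 hxM₃)⟩
    obtain ⟨s, hs⟩ := hsurj _ h
    rw [inv_eq_of_mul_eq_one_right hx2] at hs
    exact ⟨s, mul_right_cancel hs⟩

/-- A normal abelian noncyclic subgroup gives a normal four-group through a given central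
involution. -/
theorem exists_four (hT : IsPGroup 2 T) {z : T} (A : Subgroup T) [A.Normal] (hAc : IsMulCommutative A)
    (hA : ¬ IsCyclic A) :
    ∃ e : T, orderOf e = 2 ∧ e ≠ z ∧ ∀ s, s * e * s⁻¹ = e ∨ s * e * s⁻¹ = e * z := by
  haveI : Fact (Nat.Prime 2) := ⟨Nat.prime_two⟩
  have hW : ∃ a ∈ A, a * a = 1 ∧ a ≠ 1 ∧ a ≠ z := by
    by_contra h
    push_neg at h
    refine hA ?_
    have huniq : ∀ H K : Subgroup A, Nat.card H = 2 → Nat.card K = 2 → H = K := by
      have key : ∀ H : Subgroup A, Nat.card H = 2 → ∃ a : A, H = zpowers a ∧ (a : T) = z := by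
        intro H hH
        obtain ⟨a, ha⟩ := exists_prime_orderOf_dvd_card' (G := H) 2 hH.symm.dvd
        rw [← Subgroup.orderOf_coe] at ha
        refine ⟨a, (eq_of_le_of_card_ge (zpowers_le.2 a.2) ?_).symm, ?_⟩
        · rw [hH, Nat.card_zpowers, ha]
        · exact h _ (a : A).2 (congrArg Subtype.val (sq_of_orderOf_two ha) :)
            fun e => ne_one_of_orderOf_two ha (Subtype.ext e)
      intro H K hH hK
      obtain ⟨a, rfl, ha⟩ := key H hH
      obtain ⟨b, rfl, hb⟩ := key K hK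
      rw [Subtype.ext (ha.trans hb.symm)]
    haveI : IsMulCommutative (⊤ : Subgroup A) := ⟨⟨fun a b => Subtype.ext
      (hAc.is_comm.comm (a : A) (b : A))⟩⟩
    haveI := PUnique.isCyclic_of_isMulCommutative (hT.to_subgroup A) huniq ⊤
    exact isCyclic_of_surjective (Subgroup.topEquiv : (⊤ : Subgroup A) ≃* A)
      (Subgroup.topEquiv : (⊤ : Subgroup A) ≃* A).surjective
  haveI := hT.isNilpotent
  obtain ⟨a, haA, ha2, ha1, haz⟩ := hW
  obtain ⟨n, hn⟩ := Group.IsNilpotent.nilpotent' (G := T)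
  classical
  have hex : ∃ k, ∃ e ∈ Subgroup.upperCentralSeries T k, e ∈ A ∧ e * e = 1 ∧ e ≠ 1 ∧ e ≠ z :=
    ⟨n, a, hn ▸ mem_top a, haA, ha2, ha1, haz⟩
  obtain ⟨e, hek, heA, he2, he1, hez⟩ := Nat.find_spec hex
  refine ⟨e, orderOf_two he1 he2, hez, fun s => ?_⟩
  rcases hk : Nat.find hex with _ | j
  · rw [hk, Subgroup.upperCentralSeries_zero, mem_bot] at hek
    exact absurd hek he1
  rw [hk] at hek
  have hc := Subgroup.mem_upperCentralSeries_succ_iff.1 hek s
  have hei : e⁻¹ = e := inv_eq_of_mul_eq_one_right he2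
  rw [commutatorElement_def, hei] at hc
  set c := e * s * e * s⁻¹ with hcdef
  have hd : s * e * s⁻¹ ∈ A := Normal.conj_mem inferInstance e heA s
  have hd2 : s * e * s⁻¹ * (s * e * s⁻¹) = 1 := by
    calc s * e * s⁻¹ * (s * e * s⁻¹) = s * (e * e) * s⁻¹ := by group
      _ = 1 := by rw [he2, mul_one, mul_inv_cancel]
  have hc' : c = e * (s * e * s⁻¹) := by rw [hcdef]; group
  have hcA : c ∈ A := hc' ▸ mul_mem heA hd
  have hcomm : s * e * s⁻¹ * e = e * (s * e * s⁻¹) :=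
    congrArg Subtype.val (hAc.is_comm.comm (⟨_, hd⟩ : A) ⟨e, heA⟩)
  have hc2 : c * c = 1 := by
    rw [hc']
    calc e * (s * e * s⁻¹) * (e * (s * e * s⁻¹))
        = e * ((s * e * s⁻¹) * e) * (s * e * s⁻¹) := by group
      _ = e * e * ((s * e * s⁻¹) * (s * e * s⁻¹)) := by rw [hcomm]; group
      _ = 1 := by rw [he2, hd2, one_mul]
  have hcj : c = 1 ∨ c = z := by
    by_contra h
    push_neg at h
    have := Nat.find_min' hex ⟨c, hc, hcA, hc2, h.1, h.2⟩
    omega
  have hse : s * e * s⁻¹ = e * c := by rw [hc', ← mul_assoc, he2, one_mul]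
  rcases hcj with e' | e'
  · exact Or.inl (by rw [hse, e', mul_one])
  · exact Or.inr (by rw [hse, e'])

end Cfsg.Agent.Lib.ZC78
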