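import Cfsg.Agent.Lib.ZC78.Basic
import Cfsg.Agent.Lib.JComp.PairCentral
import Cfsg.Agent.S0505

/-!
# Centralizers of involutions normalise the completion; strong embedding; characteristic 2 type
-/

set_option autoImplicit false

namespace Cfsg.Agent.Lib.ZC78

open Cfsg Subgroup
open Cfsg.Agent.Lib
open Cfsg.Agent.Lib.JComp (mem_omegaCenterOf le_of_le_sylowTwoIn exists_isSylowTwoIn_ge
  exists_conj_sylowTwoIn two_mul_card_le)

variable {G : Type*} [Group G] [Finite G]

theorem relIndex_inf_normal {X : Type*} [Group X] [Finite X] (T P : Subgroup X) [P.Normal]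
    (hT : Odd T.index) : Odd ((T ⊓ P).relIndex P) := by
  rw [inf_relIndex_right]
  refine Odd.of_dvd_nat hT ?_
  have h1 := relIndex_mul_relIndex ⊥ T (P ⊔ T) bot_le le_sup_right
  have h2 := relIndex_mul_relIndex ⊥ P (P ⊔ T) bot_le le_sup_left
  have h3 := relIndex_mul_relIndex ⊥ (T ⊓ P) T bot_le inf_le_left
  have h4 := relIndex_mul_relIndex ⊥ (T ⊓ P) P bot_le inf_le_right
  rw [relIndex_bot_left, relIndex_bot_left] at h1 h2 h3 h4
  rw [relIndex_sup_left] at h2
  rw [inf_relIndex_left] at h3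
  rw [inf_relIndex_right] at h4
  have e : T.relIndex (P ⊔ T) = T.relIndex P := by
    have hpos : 0 < Nat.card ↥(T ⊓ P) * P.relIndex T := by rw [h3]; exact Nat.card_pos
    refine Nat.eq_of_mul_eq_mul_left hpos ?_
    calc Nat.card ↥(T ⊓ P) * P.relIndex T * T.relIndex (P ⊔ T)
        = Nat.card T * T.relIndex (P ⊔ T) := by rw [h3]
      _ = Nat.card P * P.relIndex T := by rw [h1, h2]
      _ = Nat.card ↥(T ⊓ P) * P.relIndex T * T.relIndex P := by rw [← h4]; ring
  rw [← e]
  exact ⟨_, (relIndex_mul_index (le_sup_right : T ≤ P ⊔ T)).symm⟩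

/-- `C(t) = O(C(t)) N(Q)` for some `Q ≤ T` containing the centre of `T`. -/
theorem exists_frattini_sub {C : Subgroup G} (hs : Group.IsSolvable C) {T : Subgroup G}
    (hT : IsSylowTwoIn T C) :
    ∃ Q : Subgroup G, Q ≤ T ∧ (∀ x ∈ T, x ∈ centralizer (T : Set G) → x ∈ Q) ∧
      ∀ k ∈ C, ∃ d ∈ (pPrimeCore 2 C).map C.subtype, d * k ∈ normalizer (Q : Set G) := by
  haveI : Fact (Nat.Prime 2) := ⟨Nat.prime_two⟩
  haveI := hs
  set O := pPrimeCore 2 C with hO
  set q := QuotientGroup.mk' O with hq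
  have hc := SolvableCore.centralizer_pCore_le (p := 2) (G := C ⧸ O) inferInstance
    PSolvable.pPrimeCore_quotient_eq_bot
  set T' := T.subgroupOf C with hT'
  have hT'i : Odd T'.index := hT.2.2
  have hT'p : IsPGroup 2 T' := hT.2.1.comap_of_injective _ C.subtype_injective
  set Tb := T'.map q with hTb
  have hTbi : Odd Tb.index :=
    Odd.of_dvd_nat hT'i (index_map_dvd _ (QuotientGroup.mk'_surjective _))
  have hO2 : pCore 2 (C ⧸ O) ≤ Tb := by
    rw [← CharP.pCoreOf_top]
    exact JComp.pCoreOf_le_sylowTwoIn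
      ⟨le_top, hT'p.map _, by rwa [relIndex_top_right]⟩
  set P := (pCore 2 (C ⧸ O)).comap q with hP
  haveI : P.Normal := Subgroup.Normal.comap inferInstance q
  set Q' := T' ⊓ P with hQ'
  have hdec : P ≤ O ⊔ Q' := by
    intro p hp
    obtain ⟨τ, hτ, e⟩ := hO2 hp
    have hτP : τ ∈ P := by
      show q τ ∈ pCore 2 (C ⧸ O)
      rw [e]; exact hp
    have h1 : p * τ⁻¹ ∈ O := (QuotientGroup.eq_one_iff _).1 (by
      show q (p * τ⁻¹) = 1
      rw [map_mul, map_inv, e, mul_inv_cancel])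
    have := mul_mem (mem_sup_left (T := Q') h1) (mem_sup_right (S := O) (⟨hτ, hτP⟩ : τ ∈ Q'))
    rwa [inv_mul_cancel_right] at this
  have hQ'S : IsSylowTwoIn Q' P :=
    ⟨inf_le_right, hT'p.to_le inf_le_left, relIndex_inf_normal T' P hT'i⟩
  refine ⟨Q'.map C.subtype, (map_mono inf_le_left).trans (map_comap_le _ _), fun x hx hxT => ?_,
    fun k hk => ?_⟩
  · have hxC : x ∈ C := hT.1 hx
    refine ⟨⟨x, hxC⟩, ⟨hx, ?_⟩, rfl⟩
    show q ⟨x, hxC⟩ ∈ pCore 2 (C ⧸ O)
    refine hc (mem_centralizer_iff.2 fun r hr => ?_)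
    obtain ⟨τ, hτ, rfl⟩ := hO2 hr
    rw [← map_mul, ← map_mul]
    exact congrArg q (Subtype.ext (mem_centralizer_iff.1 hxT τ hτ))
  · set k' : C := ⟨k, hk⟩
    set Q'' := Q'.map (MulAut.conj k').toMonoidHom with hQ''
    have hle : Q'' ≤ P := by
      rintro _ ⟨y, hy, rfl⟩
      exact Normal.conj_mem inferInstance y hy.2 k'
    have hcard : Nat.card Q'' = Nat.card Q' := card_map_of_injective (MulAut.conj k').injective
    have hS : IsSylowTwoIn Q'' P := by
      refine ⟨hle, hQ'S.2.1.map _, ?_⟩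
      have h1 := relIndex_mul_relIndex ⊥ Q'' P bot_le hle
      have h2 := relIndex_mul_relIndex ⊥ Q' P bot_le hQ'S.1
      rw [relIndex_bot_left, relIndex_bot_left, hcard] at h1
      rw [relIndex_bot_left, relIndex_bot_left] at h2
      rw [Nat.eq_of_mul_eq_mul_left Nat.card_pos (h1.trans h2.symm)]
      exact hQ'S.2.2
    obtain ⟨m, hm, hmQ⟩ := exists_conj_sylowTwoIn hS hQ'S
    have hn : m * k' ∈ normalizer (Q' : Set C) := by
      refine JComp.mem_normalizer_of_map_le ?_
      rintro _ ⟨y, hy, rfl⟩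
      have := hmQ.le ⟨k' * y * k'⁻¹, ⟨y, hy, rfl⟩, rfl⟩
      show m * k' * y * (m * k')⁻¹ ∈ Q'
      rw [show m * k' * y * (m * k')⁻¹ = m * (k' * y * k'⁻¹) * m⁻¹ by group]
      exact this
    haveI : O.Normal := inferInstance
    have hm' := hdec hm
    rw [← SetLike.mem_coe, sup_comm, mul_normal] at hm'
    obtain ⟨τ, hτ, d, hd, rfl⟩ := hm'
    refine ⟨d, ⟨d, hd, rfl⟩, ?_⟩
    have h2 : d * k' ∈ normalizer (Q' : Set C) := by
      have := mul_mem (inv_mem (Subgroup.le_normalizer hτ)) hn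
      rwa [← mul_assoc, inv_mul_cancel_left] at this
    refine JComp.mem_normalizer_of_map_le ?_
    rintro _ ⟨_, ⟨y, hy, rfl⟩, rfl⟩
    exact ⟨d * k' * y * (d * k')⁻¹, (mem_normalizer_iff.1 h2 y).1 hy, rfl⟩

/-- For an involution `t` of a big subgroup `A`, `C(t)` normalises the completion of `A`. -/
theorem centralizer_le_normalizer_sigW (hG : ZCGroup G) (hl : ∀ S : Sylow 2 G, Linked (S : Subgroup G))
    {A : Subgroup G} (hA : Big A) {t : G} (ht : t ∈ A) (ht1 : t ≠ 1) :
    centralizer ({t} : Set G) ≤ normalizer (sigW A : Set G) := by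
  haveI : Fact (Nat.Prime 2) := ⟨Nat.prime_two⟩
  set W := sigW A with hW
  have ht2 : t * t = 1 := mul_self_of_mem hA.1 ht
  have hto : orderOf t = 2 := orderOf_two ht1 ht2
  have hAC : A ≤ centralizer ({t} : Set G) := fun a ha =>
    mem_centralizer_singleton_iff.2 (ElemAbelian.comm hA.1 ha ht)
  have hAp : IsPGroup 2 A := ElemAbelian.isPGroup hA.1
  obtain ⟨T, hT, hAT⟩ := exists_isSylowTwoIn_ge hAC hAp
  obtain ⟨S, hS⟩ := hT.2.1.exists_le_sylow
  have hnorm : ∀ n : G, sigW (A.map (MulAut.conj n).toMonoidHom) = W →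
      n ∈ normalizer (W : Set G) := by
    intro n e
    rw [sigW_map] at e
    exact mem_normalizer_iff_map_conj_eq.2 e
  by_cases hZ : omegaCenterOf (S : Subgroup G) ≤ zpowers t
  · refine le_trans ?_ (fun n hn => hnorm n ?_)
      (a := centralizer ({t} : Set G)) (b := normalizer ((S : Subgroup G) : Set G))
    · refine le_trans ?_ (hG.centralizer_le S)
      rw [← centralizer_closure, ← zpowers_eq_closure]
      exact centralizer_le (SetLike.coe_subset_coe.2 hZ)
    · refine hl S _ _ ?_ (hAT.trans hS) (hA.map n) hA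
      exact (map_mono (hAT.trans hS)).trans (mem_normalizer_iff_map_conj_eq.1 hn).le
  obtain ⟨z, hz, hzt⟩ := SetLike.not_le_iff_exists.1 hZ
  obtain ⟨hzS, hzc, hz2⟩ := mem_omegaCenterOf.1 hz
  have hzsq : z * z = 1 := by rw [← sq]; exact hz2
  have hz1 : z ≠ 1 := fun e => hzt (e ▸ one_mem _)
  have hzcom : ∀ s ∈ (S : Subgroup G), s * z = z * s := fun s hs => mem_centralizer_iff.1 hzc s hs
  have hzC : z ∈ centralizer ({t} : Set G) :=
    mem_centralizer_singleton_iff.2 (hzcom t (hS (hAT ht))).symm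
  have hzN : zpowers z ≤ normalizer (T : Set G) := by
    rw [zpowers_le]
    exact centralizer_le_normalizer _
      (mem_centralizer_iff.2 fun y hy => hzcom y (hS hy))
  have hzT : z ∈ T := le_of_le_sylowTwoIn hT (zpowers_le.2 hzC)
    (ElemAbelian.isPGroup (ElemAbelian.zpowers hz2)) hzN (mem_zpowers z)
  obtain ⟨Q, hQT, hQc, hfr⟩ := exists_frattini_sub (hG.solvable t hto) hT
  have hzQ : z ∈ Q := hQc z hzT (mem_centralizer_iff.2 fun y hy => hzcom y (hS hy))
  -- the completion of `⟨t, z⟩`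
  have hne : t ≠ z := fun e => hzt (e ▸ mem_zpowers t)
  set U := zpowers t ⊔ zpowers z with hU
  obtain ⟨hUe, hU4⟩ := four_pair ht2 hzsq ht1 hz1 hne (hzcom t (hS (hAT ht)))
  have hWU : sigW U = W := by
    by_cases hzA : z ∈ A
    · exact sigW_eq hG hA (sup_le (zpowers_le.2 ht) (zpowers_le.2 hzA)) hU4
    · have hB : Big (A ⊔ zpowers z) :=
        ⟨ElemAbelian.sup hA.1 (ElemAbelian.zpowers hz2) (by
            rw [zpowers_eq_closure, centralizer_closure]
            exact fun a ha => mem_centralizer_singleton_iff.2 (hzcom a (hS (hAT ha)))),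
          hA.2.trans (card_le_of_le le_sup_left)⟩
      rw [hW, sigW_eq hG hB le_sup_left (le_trans (by norm_num) hA.2),
        sigW_eq hG hB (sup_le ((zpowers_le.2 ht).trans le_sup_left) le_sup_right) hU4]
  intro k hk
  obtain ⟨d, hd, hdk⟩ := hfr k hk
  have hdW : d ∈ normalizer (W : Set G) := Subgroup.le_normalizer (core_le_sigW ht ht1 hd)
  set n := d * k with hn
  have hnt : n * t * n⁻¹ = t := mul_inv_eq_iff_eq_mul.2 (mem_centralizer_singleton_iff.1
    (mul_mem (map_subtype_le _ hd) hk))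
  suffices hnW : n ∈ normalizer (W : Set G) by
    have := mul_mem (inv_mem hdW) hnW
    rwa [hn, inv_mul_cancel_left] at this
  set z' := n * z * n⁻¹ with hz'
  have hz'Q : z' ∈ Q := (mem_normalizer_iff.1 hdk z).1 hzQ
  have hz'2 : z' * z' = 1 := JComp.sq_conj hzsq
  have hUmap : U.map (MulAut.conj n).toMonoidHom = zpowers t ⊔ zpowers z' := by
    rw [hU, Subgroup.map_sup, MonoidHom.map_zpowers, MonoidHom.map_zpowers]
    show zpowers (n * t * n⁻¹) ⊔ zpowers z' = _
    rw [hnt]
  have hU'4 : 4 ≤ Nat.card ↥(U.map (MulAut.conj n).toMonoidHom) := by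
    rw [card_map_of_injective (MulAut.conj n).injective]; exact hU4
  have e : sigW (U.map (MulAut.conj n).toMonoidHom) = sigW U := by
    by_cases hz'U : z' ∈ U
    · have hle : U.map (MulAut.conj n).toMonoidHom ≤ U :=
        hUmap.le.trans (sup_le le_sup_left (zpowers_le.2 hz'U))
      rw [eq_of_le_of_card_ge hle (by rw [card_map_of_injective (MulAut.conj n).injective])]
    · have hB : Big (U ⊔ zpowers z') := big_sup hUe hU4 hz'2 hz'U fun u hu => by
        have h1 : U ≤ centralizer ({z'} : Set G) := sup_le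
          (zpowers_le.2 (mem_centralizer_singleton_iff.2
            (mem_centralizer_singleton_iff.1 (hT.1 (hQT hz'Q))).symm))
          (zpowers_le.2 (mem_centralizer_singleton_iff.2 (hzcom z' (hS (hQT hz'Q))).symm))
        exact (mem_centralizer_singleton_iff.1 (h1 hu)).symm
      rw [sigW_eq hG hB le_sup_left hU4,
        sigW_eq hG hB (hUmap.le.trans (sup_le (le_sup_left.trans le_sup_left) le_sup_right)) hU'4]
  rw [sigW_map, hWU] at e
  exact mem_normalizer_iff_map_conj_eq.2 e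

/-! ### The residual -/

theorem pResidual_normal' : (pResidual 2 G).Normal := by
  refine ⟨fun x hx g => ?_⟩
  suffices h : (pResidual 2 G).map (MulAut.conj g).toMonoidHom ≤ pResidual 2 G from
    h (mem_map_of_mem _ hx)
  rw [pResidual, MonoidHom.map_closure, closure_le]
  rintro _ ⟨y, hy, rfl⟩
  refine subset_closure ?_
  show (orderOf ((MulAut.conj g) y)).Coprime 2
  rwa [MulEquiv.orderOf_eq]

theorem pResidual_sup_sylow (S : Sylow 2 G) : pResidual 2 G ⊔ (S : Subgroup G) = ⊤ := by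
  haveI : Fact (Nat.Prime 2) := ⟨Nat.prime_two⟩
  set L := pResidual 2 G
  haveI : L.Normal := pResidual_normal'
  have hQ : IsPGroup 2 (G ⧸ L) := by
    intro x
    obtain ⟨g, rfl⟩ := QuotientGroup.mk'_surjective L x
    refine ⟨(orderOf g).factorization 2, ?_⟩
    rw [← map_pow]
    refine (QuotientGroup.eq_one_iff _).2 (subset_closure ?_)
    show (orderOf (g ^ 2 ^ (orderOf g).factorization 2)).Coprime 2
    rw [orderOf_pow_of_dvd (pow_ne_zero _ two_ne_zero) (Nat.ordProj_dvd _ 2)]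
    exact (Nat.coprime_ordCompl Nat.prime_two (orderOf_pos g).ne').symm
  have h1 := (S.mapSurjective (QuotientGroup.mk'_surjective L)).3 (hQ.to_subgroup ⊤) le_top
  rw [Sylow.coe_mapSurjective] at h1
  refine eq_top_iff.2 fun g _ => ?_
  obtain ⟨t, ht, htg⟩ : QuotientGroup.mk' L g ∈ (S : Subgroup G).map (QuotientGroup.mk' L) :=
    h1 ▸ mem_top _
  have : g * t⁻¹ ∈ L := (QuotientGroup.eq_one_iff _).1 (by
    show QuotientGroup.mk' L (g * t⁻¹) = 1
    rw [map_mul, map_inv, htg, mul_inv_cancel])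
  simpa using mul_mem_sup this ht

theorem le_pResidual_of_index_two {M : Subgroup G} (hM : M.index = 2) : pResidual 2 G ≤ M := by
  haveI : M.Normal := normal_of_index_eq_two hM
  rw [pResidual, closure_le]
  intro g hg
  have h1 : (QuotientGroup.mk' M g : G ⧸ M) = 1 := by
    rw [← orderOf_eq_one_iff]
    refine Nat.eq_one_of_dvd_coprimes hg (orderOf_map_dvd _ g) ?_
    rw [← hM]; exact orderOf_dvd_natCard _
  exact (QuotientGroup.eq_one_iff g).1 h1

omit [Finite G] in
theorem mem_of_mem_pResidual {g : G} (h : Odd (orderOf g)) : g ∈ pResidual 2 G :=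
  subset_closure (Nat.coprime_two_right.2 h)

/-- There is an involution in `S ∩ O²(G)`. -/
theorem exists_involution (heven : Even (Nat.card G)) (hO' : pPrimeCore 2 G = ⊥)
    (hO : pCore 2 G = ⊥) (S : Sylow 2 G) :
    ∃ t ∈ (S : Subgroup G), t ∈ pResidual 2 G ∧ orderOf t = 2 := by
  haveI : Fact (Nat.Prime 2) := ⟨Nat.prime_two⟩
  haveI : (pResidual 2 G).Normal := pResidual_normal'
  have hne : pResidual 2 G ≠ ⊥ := by
    intro e
    have hS : (S : Subgroup G) = ⊤ := by
      have := pResidual_sup_sylow S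
      rwa [e, bot_sup_eq] at this
    have : (⊤ : Subgroup G) ≤ pCore 2 G :=
      PSolvable.le_pCore (hS ▸ S.isPGroup')
    rw [hO, top_le_iff] at this
    have h1 : Nat.card G = 1 := by rw [← card_top (G := G), ← this, card_bot]
    rw [h1] at heven
    exact absurd heven (by decide)
  have hev : 2 ∣ Nat.card (pResidual 2 G) := by
    by_contra h
    refine hne (eq_bot_iff.2 (hO' ▸ PSolvable.le_pPrimeCore ?_))
    exact (Nat.prime_two.coprime_iff_not_dvd.2 h).symm
  obtain ⟨t, ht⟩ := exists_prime_orderOf_dvd_card' (G := pResidual 2 G) 2 hev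
  rw [← Subgroup.orderOf_coe] at ht
  obtain ⟨S', hS'⟩ := (ElemAbelian.isPGroup (ElemAbelian.zpowers (p := 2)
    (by rw [sq]; exact sq_of_orderOf_two ht : (t : G) ^ 2 = 1))).exists_le_sylow
  obtain ⟨g, hg⟩ := MulAction.exists_smul_eq G S' S
  refine ⟨g * t * g⁻¹, ?_, Normal.conj_mem inferInstance _ t.2 g, ?_⟩
  · rw [← hg]
    exact ⟨t, hS' (mem_zpowers _), rfl⟩
  · exact (orderOf_injective (MulAut.conj g).toMonoidHom (MulAut.conj g).injective _).trans ht

/-- An involution of `X ⊇ S` is conjugate in `X` into `S`. -/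
theorem exists_conj_mem {X : Subgroup G} (S : Sylow 2 G) (hSX : (S : Subgroup G) ≤ X) {t : G}
    (htX : t ∈ X) (ht : orderOf t = 2) : ∃ m ∈ X, m * t * m⁻¹ ∈ (S : Subgroup G) := by
  haveI : Fact (Nat.Prime 2) := ⟨Nat.prime_two⟩
  have hS : IsSylowTwoIn (S : Subgroup G) X := by
    refine ⟨hSX, S.isPGroup', ?_⟩
    refine Odd.of_dvd_nat (n := (S : Subgroup G).index) ?_ ⟨_, (relIndex_mul_index hSX).symm⟩
    rw [← Nat.not_even_iff_odd, even_iff_two_dvd]
    exact S.not_dvd_index
  obtain ⟨T, hT, hle⟩ := exists_isSylowTwoIn_ge (zpowers_le.2 htX)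
    (ElemAbelian.isPGroup (ElemAbelian.zpowers (by rw [sq]; exact sq_of_orderOf_two ht)))
  obtain ⟨m, hm, e⟩ := exists_conj_sylowTwoIn hT hS
  exact ⟨m, hm, e.le ⟨t, hle (mem_zpowers t), rfl⟩⟩

/-- Strong embedding in `O²(G)` from control of involution fusion. -/
theorem se_of_fusion (S : Sylow 2 G) {M : Subgroup G} (hSM : (S : Subgroup G) ≤ M) (hM : M ≠ ⊤)
    {t₀ : G} (ht₀S : t₀ ∈ (S : Subgroup G)) (ht₀H : t₀ ∈ pResidual 2 G) (ht₀ : orderOf t₀ = 2)
    (hfus : ∀ t ∈ (S : Subgroup G), t ∈ pResidual 2 G → orderOf t = 2 →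
      ∀ g : G, g * t * g⁻¹ ∈ (S : Subgroup G) → g ∈ M) :
    ∃ K : Subgroup (pResidual 2 G), IsStronglyEmbedded K := by
  haveI : Fact (Nat.Prime 2) := ⟨Nat.prime_two⟩
  set H := pResidual 2 G with hH
  haveI : H.Normal := pResidual_normal'
  refine ⟨M.subgroupOf H, ?_, ?_, fun x hx => ?_⟩
  · intro e
    refine hM (top_le_iff.1 ((pResidual_sup_sylow S).ge.trans (sup_le ?_ hSM)))
    exact subgroupOf_eq_top.1 e
  · rw [even_iff_two_dvd]
    have h := orderOf_dvd_natCard (⟨⟨t₀, ht₀H⟩, hSM ht₀S⟩ : M.subgroupOf H)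
    rwa [← Subgroup.orderOf_coe, ← Subgroup.orderOf_coe, ht₀] at h
  · rw [← Nat.not_even_iff_odd, even_iff_two_dvd]
    intro hev
    obtain ⟨⟨t, ht⟩, hto⟩ := exists_prime_orderOf_dvd_card' 2 hev
    rw [← Subgroup.orderOf_coe] at hto
    obtain ⟨htM, t', ht'M, e⟩ := ht
    have hto' : orderOf (t : G) = 2 := (Subgroup.orderOf_coe t).trans hto
    have e' : (x : G) * t' * (x : G)⁻¹ = t := congrArg Subtype.val e
    have ht'o : orderOf (t' : G) = 2 := by
      rw [← hto', ← e']
      exact (orderOf_injective (MulAut.conj (x : G)).toMonoidHom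
        (MulAut.conj (x : G)).injective _).symm
    obtain ⟨m, hm, hmS⟩ := exists_conj_mem S hSM htM hto'
    obtain ⟨m', hm', hm'S⟩ := exists_conj_mem S hSM ht'M ht'o
    have hg := hfus _ hm'S (Normal.conj_mem inferInstance _ t'.2 m')
      ((orderOf_injective (MulAut.conj m').toMonoidHom (MulAut.conj m').injective _).trans ht'o)
      (m * x * m'⁻¹) (by
        show m * (x : G) * m'⁻¹ * (m' * (t' : G) * m'⁻¹) * (m * (x : G) * m'⁻¹)⁻¹ ∈ _
        rwa [show m * x * m'⁻¹ * (m' * t' * m'⁻¹) * (m * x * m'⁻¹)⁻¹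
          = m * ((x : G) * t' * (x : G)⁻¹) * m⁻¹ by group, e'])
    refine hx (mem_subgroupOf.2 ?_)
    have := M.mul_mem (M.mul_mem (M.inv_mem hm) hg) hm'
    rwa [show m⁻¹ * (m * (x : G) * m'⁻¹) * m' = x by group] at this

/-- A normalizer of a nontrivial subgroup of odd order is proper. -/
theorem normalizer_ne_top (hO' : pPrimeCore 2 G = ⊥) {W : Subgroup G} (hW : ¬ 2 ∣ Nat.card W)
    (hW1 : W ≠ ⊥) : normalizer (W : Set G) ≠ ⊤ := by
  intro e
  haveI : W.Normal := normalizer_eq_top_iff.1 e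
  exact hW1 (eq_bot_iff.2 (hO' ▸ PSolvable.le_pPrimeCore
    (Nat.prime_two.coprime_iff_not_dvd.2 hW).symm))

/-- A normal subgroup all of whose involutions have core-free centralizers is of characteristic 2
type. -/
theorem charTwo_of_cores (hG : ZCGroup G) (K : Subgroup G) [K.Normal] (hK : Even (Nat.card K))
    (hc : ∀ t ∈ K, orderOf t = 2 → core t = ⊥) : IsCharacteristicTwoType K := by
  haveI : Fact (Nat.Prime 2) := ⟨Nat.prime_two⟩
  have hs : ∀ t : K, orderOf t = 2 → Group.IsSolvable (centralizer ({t} : Set K)) := by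
    intro t ht
    haveI := hG.solvable (t : G) ((Subgroup.orderOf_coe t).trans ht)
    refine Group.isSolvable_of_isSolvable_injective
      (f := (K.subtype.comp (centralizer ({t} : Set K)).subtype).codRestrict
        (centralizer ({(t : G)} : Set G)) fun c => mem_centralizer_singleton_iff.2
          (congrArg Subtype.val (mem_centralizer_singleton_iff.1 c.2) :)) ?_
    exact fun a b e => Subtype.ext (Subtype.ext (congrArg Subtype.val e :))
  refine S0505.result hK hs fun t ht => ?_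
  set C := centralizer ({(t : G)} : Set G)
  have hC : pPrimeCore 2 C = ⊥ :=
    (map_eq_bot_iff_of_injective _ C.subtype_injective).1
      (hc _ t.2 ((Subgroup.orderOf_coe t).trans ht))
  set D := K.subgroupOf C
  have hD : pPrimeCore 2 D = ⊥ := by
    have h := PSolvable.map_subtype_pPrimeCore_of_normal (p := 2) D
    rw [hC, bot_inf_eq] at h
    exact (map_eq_bot_iff_of_injective _ D.subtype_injective).1 h
  let e : D ≃* centralizer ({t} : Set K) :=
    { toFun := fun d => ⟨⟨((d : C) : G), d.2⟩, mem_centralizer_singleton_iff.2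
        (Subtype.ext (mem_centralizer_singleton_iff.1 (d : C).2))⟩
      invFun := fun c => ⟨⟨((c : K) : G), mem_centralizer_singleton_iff.2
        (congrArg Subtype.val (mem_centralizer_singleton_iff.1 c.2) :)⟩, (c : K).2⟩
      left_inv := fun _ => rfl
      right_inv := fun _ => rfl
      map_mul' := fun _ _ => rfl }
  show pPrimeCore 2 _ = ⊥
  rw [← PSolvable.map_pPrimeCore_equiv e, hD, Subgroup.map_bot]

end Cfsg.Agent.Lib.ZC78
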