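import Cfsg.Agent.Lib.ZC78.Fused
import Cfsg.Agent.Lib.ZC78.Half
import Cfsg.Agent.S2947

/-!
# The reduction to local characteristic two
-/

set_option autoImplicit false

namespace Cfsg.Agent.Lib.ZC78

open Cfsg Subgroup
open Cfsg.Agent.Lib
open Cfsg.Agent.Lib.JComp (mem_omegaCenterOf two_mul_card_le eq_one_or_eq_of_mem_zpowers sq_conj)

variable {G : Type*} [Group G] [Finite G]

theorem omega_elementary (X : Subgroup G) : IsElementaryAbelian 2 (omegaCenterOf X) :=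
  ElemAbelian.of_comm_of_pow
    (fun a ha _ hb => mem_centralizer_iff.1 (mem_omegaCenterOf.1 hb).2.1 a
      (mem_omegaCenterOf.1 ha).1)
    fun _ ha => (mem_omegaCenterOf.1 ha).2.2

theorem sup_omega_normal (S : Sylow 2 G) :
    (pResidual 2 G ⊔ omegaCenterOf (S : Subgroup G)).Normal := by
  haveI : (pResidual 2 G).Normal := pResidual_normal'
  set H := pResidual 2 G with hH
  set Z := omegaCenterOf (S : Subgroup G) with hZ
  rw [← normalizer_eq_top_iff, eq_top_iff, ← pResidual_sup_sylow S]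
  refine sup_le ((le_sup_left : H ≤ H ⊔ Z).trans le_normalizer) fun s hs => ?_
  have hs' : s ∈ normalizer (Z : Set G) := centralizer_le_normalizer _ (mem_centralizer_iff.2
    fun z hz => (mem_centralizer_iff.1 (mem_omegaCenterOf.1 hz).2.1 s hs).symm)
  exact normalizer_inf_normalizer_le_normalizer_sup H Z
    ⟨by rw [normalizer_eq_top_iff.2 (inferInstance : H.Normal)]; exact mem_top s, hs'⟩

/-- `Ω₁(Z(S))` of order two lies in `O²(G)`. -/
theorem mem_pResidual_of_eq (heven : Even (Nat.card G)) (hO' : pPrimeCore 2 G = ⊥)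
    (hO : pCore 2 G = ⊥) (S : Sylow 2 G) {z : G}
    (hzZ : omegaCenterOf (S : Subgroup G) = zpowers z) (hz : orderOf z = 2) :
    z ∈ pResidual 2 G := by
  haveI : Fact (Nat.Prime 2) := ⟨Nat.prime_two⟩
  haveI : (pResidual 2 G).Normal := pResidual_normal'
  obtain ⟨t₀, ht₀S, ht₀H, ht₀⟩ := exists_involution heven hO' hO S
  set R := (S : Subgroup G) ⊓ pResidual 2 G with hR
  have hb : R ⊓ centralizer ((S : Subgroup G) : Set G) ≠ ⊥ := fun hb =>
    S2947.no_fixed (S.isPGroup'.to_le inf_le_left) S.isPGroup'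
      (fun s hs => normalizer_inf_normalizer_le_normalizer_inf' hs)
      (fun e => ne_one_of_orderOf_two ht₀ ((eq_bot_iff.1 e) ⟨ht₀S, ht₀H⟩)) hb
  have hev : 2 ∣ Nat.card ↥(R ⊓ centralizer ((S : Subgroup G) : Set G)) := by
    obtain ⟨k, hk⟩ := IsPGroup.iff_card.1 (S.isPGroup'.to_le
      (inf_le_left.trans inf_le_left : R ⊓ centralizer ((S : Subgroup G) : Set G) ≤ _))
    rcases k with _ | k
    · exact absurd (card_eq_one.1 (hk.trans (pow_zero 2))) hb
    · exact hk ▸ dvd_pow_self 2 k.succ_ne_zero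
  obtain ⟨⟨u, hu⟩, huo⟩ := exists_prime_orderOf_dvd_card' 2 hev
  rw [← Subgroup.orderOf_coe] at huo
  have hu2 : u * u = 1 := sq_of_orderOf_two huo
  have huZ : u ∈ omegaCenterOf (S : Subgroup G) :=
    mem_omegaCenterOf.2 ⟨hu.1.1, hu.2, by rw [sq, hu2]⟩
  rw [hzZ] at huZ
  rcases eq_one_or_eq_of_mem_zpowers (sq_of_orderOf_two hz) huZ with rfl | rfl
  · exact absurd rfl (ne_one_of_orderOf_two huo)
  · exact hu.1.2
where
  normalizer_inf_normalizer_le_normalizer_inf' {S : Sylow 2 G} {s : G}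
      (hs : s ∈ (S : Subgroup G)) :
      s ∈ normalizer (((S : Subgroup G) ⊓ pResidual 2 G : Subgroup G) : Set G) := by
    haveI : (pResidual 2 G).Normal := pResidual_normal'
    refine JComp.mem_normalizer_of_map_le ?_
    rintro _ ⟨x, hx, rfl⟩
    exact ⟨(S : Subgroup G).mul_mem ((S : Subgroup G).mul_mem hs hx.1) ((S : Subgroup G).inv_mem hs), Normal.conj_mem inferInstance x hx.2 s⟩

/-- When `|Ω₁(Z(S))| = 2`. -/
theorem cyclic_case (hG : ZCGroup G) (heven : Even (Nat.card G)) (hO' : pPrimeCore 2 G = ⊥)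
    (hO : pCore 2 G = ⊥) (S : Sylow 2 G) {z : G}
    (hzZ : omegaCenterOf (S : Subgroup G) = zpowers z) (hz : orderOf z = 2) :
    (∃ M : Subgroup (pResidual 2 G), IsStronglyEmbedded M) ∨
      (Nat.card ↥(omegaCenterOf (S : Subgroup G) ⊓ pResidual 2 G) = 2 ∧
        ∀ h ∈ pResidual 2 G, ∀ w ∈ omegaCenterOf (S : Subgroup G) ⊓ pResidual 2 G,
          h * w * h⁻¹ ∈ (S : Subgroup G) → h * w * h⁻¹ ∈ omegaCenterOf (S : Subgroup G)) ∨
      IsCharacteristicTwoType (pResidual 2 G) := by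
  haveI : Fact (Nat.Prime 2) := ⟨Nat.prime_two⟩
  haveI hHn : (pResidual 2 G).Normal := pResidual_normal'
  have hzH := mem_pResidual_of_eq heven hO' hO S hzZ hz
  have hz2 := sq_of_orderOf_two hz
  have hz1 := ne_one_of_orderOf_two hz
  obtain ⟨hzS, hzc, -⟩ := mem_omegaCenterOf.1 (hzZ.ge (mem_zpowers z))
  have hzcom : ∀ s ∈ (S : Subgroup G), s * z = z * s := fun s hs => mem_centralizer_iff.1 hzc s hs
  by_cases hwc : ∀ h ∈ pResidual 2 G, ∀ w ∈ omegaCenterOf (S : Subgroup G) ⊓ pResidual 2 G,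
      h * w * h⁻¹ ∈ (S : Subgroup G) → h * w * h⁻¹ ∈ omegaCenterOf (S : Subgroup G)
  · refine Or.inr (Or.inl ⟨?_, hwc⟩)
    rw [hzZ, inf_eq_left.2 (zpowers_le.2 hzH), Nat.card_zpowers, hz]
  suffices h : (∃ M : Subgroup (pResidual 2 G), IsStronglyEmbedded M) ∨
      IsCharacteristicTwoType (pResidual 2 G) from h.imp_right Or.inr
  push_neg at hwc
  obtain ⟨h₀, -, w, ⟨hwZ, -⟩, hwS, hwn⟩ := hwc
  have hx₀ : ∃ g x, g * z * g⁻¹ = x ∧ x ∈ (S : Subgroup G) ∧ x ≠ z := by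
    refine ⟨h₀, _, rfl, ?_⟩
    rcases eq_one_or_eq_of_mem_zpowers hz2 (hzZ ▸ hwZ : w ∈ zpowers z) with rfl | rfl
    · exact absurd (by rw [mul_one, mul_inv_cancel]; exact one_mem _) hwn
    · exact ⟨hwS, fun e => hwn (e.symm ▸ hwZ)⟩
  set T := (S : Subgroup G)
  have hT : IsPGroup 2 T := S.isPGroup'
  by_cases h2a : ∃ g x, g * z * g⁻¹ = x ∧ x ∈ T ∧ x ≠ z ∧
      Nat.card ↥(T ⊓ centralizer ({x} : Set G)) = 4
  · obtain ⟨g, x, hgx, hxS, hxz, hC⟩ := h2a
    have hxo : orderOf x = 2 := hgx ▸ (orderOf_conj g z).trans hz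
    have hC' : Nat.card (centralizer ({(⟨x, hxS⟩ : T)} : Set T)) = 4 := by
      rw [← hC, ← card_map_of_injective T.subtype_injective]
      refine congrArg (fun X : Subgroup G => Nat.card X) ?_
      ext y
      constructor
      · rintro ⟨y, hy, rfl⟩
        exact ⟨y.2, mem_centralizer_singleton_iff.2
          (congrArg Subtype.val (mem_centralizer_singleton_iff.1 hy) :)⟩
      · rintro ⟨hy, hy'⟩
        exact ⟨⟨y, hy⟩, mem_centralizer_singleton_iff.2
          (Subtype.ext (mem_centralizer_singleton_iff.1 hy')), rfl⟩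
    have hnc : ∃ s : T, s * ⟨x, hxS⟩ ≠ ⟨x, hxS⟩ * s := by
      by_contra hh
      push_neg at hh
      have hxZ : x ∈ omegaCenterOf T := mem_omegaCenterOf.2
        ⟨hxS, mem_centralizer_iff.2 fun s hs => congrArg Subtype.val (hh ⟨s, hs⟩),
          by rw [sq, sq_of_orderOf_two hxo]⟩
      rw [hzZ] at hxZ
      exact (eq_one_or_eq_of_mem_zpowers hz2 hxZ).elim (ne_one_of_orderOf_two hxo) hxz
    obtain ⟨Q, hQ, hQinv⟩ := exists_half hT (z := ⟨z, hzS⟩) (x := ⟨x, hxS⟩)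
      ((Subgroup.orderOf_mk z hzS).trans hz) (fun s => Subtype.ext (hzcom s s.2))
      ((Subgroup.orderOf_mk x hxS).trans hxo) (fun e => hxz (congrArg Subtype.val e)) hnc hC'
    refine fused_se_or_charTwo hG hO' S hzZ hz hzH
      (fused_of_half S (Q := Q.map T.subtype) (map_subtype_le _) ?_ ?_)
    · rw [relIndex, ← comap_subtype, comap_map_eq_self_of_injective T.subtype_injective, hQ]
    · rintro _ ⟨q, hq, rfl⟩ hqo
      rcases hQinv q hq ((Subgroup.orderOf_coe q).symm.trans hqo) with rfl | ⟨s, rfl⟩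
      · exact ⟨1, by simp⟩
      · exact ⟨s * g, by
          rw [show (s : G) * g * z * ((s : G) * g)⁻¹ = (s : G) * (g * z * g⁻¹) * (s : G)⁻¹ by group,
            hgx]
          rfl⟩
  obtain ⟨g₀, x₀, hgx₀, hx₀S, hx₀z⟩ := hx₀
  have hx₀o : orderOf x₀ = 2 := hgx₀ ▸ (orderOf_conj g₀ z).trans hz
  have hx₀1 := ne_one_of_orderOf_two hx₀o
  by_cases hcyc : ∀ A : Subgroup T, A.Normal → IsMulCommutative A → IsCyclic A
  · exfalso
    have hm : ∃ B : Subgroup T, IsMulCommutative B ∧ ¬ IsCyclic B := by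
      have hz' : (⟨z, hzS⟩ : T) * ⟨z, hzS⟩ = 1 := Subtype.ext hz2
      have hx' : (⟨x₀, hx₀S⟩ : T) * ⟨x₀, hx₀S⟩ = 1 := Subtype.ext (sq_of_orderOf_two hx₀o)
      have hne : (⟨z, hzS⟩ : T) ≠ ⟨x₀, hx₀S⟩ := fun e => hx₀z (congrArg Subtype.val e).symm
      have h1 : (⟨z, hzS⟩ : T) ≠ 1 := fun e => hz1 (congrArg Subtype.val e)
      have h2 : (⟨x₀, hx₀S⟩ : T) ≠ 1 := fun e => hx₀1 (congrArg Subtype.val e)
      refine ⟨zpowers ⟨z, hzS⟩ ⊔ zpowers ⟨x₀, hx₀S⟩,
        (four_pair hz' hx' h1 h2 hne (Subtype.ext (hzcom x₀ hx₀S).symm)).1.1,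
        S0519.not_isCyclic_of_two_involutions (mem_sup_left (mem_zpowers _))
          (mem_sup_right (mem_zpowers _)) ?_ ?_ h1 h2 hne⟩
      · rw [sq, hz']
      · rw [sq, hx']
    obtain ⟨-, hcases⟩ := S0519.result 2 hT hcyc hm
    obtain ⟨a, ha⟩ : ∃ a : T, 2 * orderOf a = Nat.card T := by
      rcases hcases with ⟨n, ⟨e⟩⟩ | ⟨n, hn, ⟨e⟩⟩ | ⟨n, -, hn, x, -, hx, -, -⟩
      · haveI : NeZero n := ⟨fun h => by
          subst h
          haveI : Finite (QuaternionGroup 0) := Finite.of_equiv _ e.toEquiv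
          haveI : Finite ℤ := Finite.of_injective
            (fun i : ℤ => (QuaternionGroup.a i : QuaternionGroup 0))
            fun i j h => QuaternionGroup.a.inj h
          exact not_finite ℤ⟩
        refine ⟨e.symm (QuaternionGroup.a 1), ?_⟩
        rw [MulEquiv.orderOf_eq, QuaternionGroup.orderOf_a_one, Nat.card_congr e.toEquiv,
          Nat.card_eq_fintype_card, QuaternionGroup.card]
        ring
      · haveI : NeZero n := ⟨by omega⟩
        refine ⟨e.symm (DihedralGroup.r 1), ?_⟩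
        rw [MulEquiv.orderOf_eq, DihedralGroup.orderOf_r_one, Nat.card_congr e.toEquiv,
          DihedralGroup.nat_card]
      · exact ⟨x, by rw [hx, hn, pow_succ, mul_comm]⟩
    set X := zpowers a
    have hXi : X.index = 2 := by
      have h1 := X.card_mul_index
      rw [Nat.card_zpowers, ← ha, mul_comm 2] at h1
      exact Nat.eq_of_mul_eq_mul_left (orderOf_pos a) h1
    haveI : X.Normal := normal_of_index_eq_two hXi
    have hXuniq : ∀ y ∈ X, y * y = 1 → y = 1 ∨ (y : G) = z := by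
      intro y hy hy2
      by_cases hy1 : y = 1
      · exact Or.inl hy1
      right
      have hyc : ∀ s : T, s * y * s⁻¹ = y := by
        intro s
        by_contra hne
        refine S0519.not_isCyclic_of_two_involutions (V := X) (Normal.conj_mem inferInstance y hy s)
          hy ?_ ?_ (fun e => hy1 (conj_eq_one_iff.1 e)) hy1 hne inferInstance
        · rw [sq, sq_conj hy2]
        · rw [sq, hy2]
      have hyZ : (y : G) ∈ omegaCenterOf T := mem_omegaCenterOf.2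
        ⟨y.2, mem_centralizer_iff.2 fun s hs => congrArg Subtype.val
          (mul_inv_eq_iff_eq_mul.1 (hyc ⟨s, hs⟩)),
          by rw [sq]; exact congrArg Subtype.val hy2⟩
      rw [hzZ] at hyZ
      exact (eq_one_or_eq_of_mem_zpowers hz2 hyZ).resolve_left fun e => hy1 (Subtype.ext e)
    refine h2a ⟨g₀, x₀, hgx₀, hx₀S, hx₀z, card_eq_four hG S hzZ hz hgx₀ hx₀S hx₀z
      (C₀ := X.map T.subtype) ?_ ?_ ?_⟩
    · intro b hb c hc hb' hc'
      exact ⟨⟨b, hb⟩ * ⟨c, hc⟩, (mul_mem_iff_of_index_two hXi).2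
        (iff_of_false (fun h => hb' ⟨_, h, rfl⟩) fun h => hc' ⟨_, h, rfl⟩), rfl⟩
    · rintro ⟨y, hy, hyx⟩
      have hyx' : (y : G) = x₀ := hyx
      rcases hXuniq y hy (Subtype.ext (show (y : G) * y = 1 by rw [hyx', sq_of_orderOf_two hx₀o]))
        with rfl | e
      · exact hx₀1 (hyx'.symm.trans T.coe_one)
      · exact hx₀z (hyx'.symm.trans e)
    · rintro _ ⟨y, hy, rfl⟩ - - hy2
      exact (hXuniq y hy (Subtype.ext hy2)).imp_left fun e => by rw [e, map_one]
  push_neg at hcyc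
  obtain ⟨A, hAn, hAc, hA⟩ := hcyc
  haveI := hAn
  obtain ⟨⟨e, heS⟩, heo, hez', he⟩ := exists_four hT (z := (⟨z, hzS⟩ : T)) A hAc hA
  rw [← Subgroup.orderOf_coe] at heo
  change orderOf e = 2 at heo
  have he2 := sq_of_orderOf_two heo
  have he1 := ne_one_of_orderOf_two heo
  have hez : e ≠ z := fun h => hez' (Subtype.ext h)
  have hconj : ∀ s ∈ T, s * e * s⁻¹ = e ∨ s * e * s⁻¹ = e * z := fun s hs =>
    (he ⟨s, hs⟩).imp (congrArg Subtype.val) (congrArg Subtype.val)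
  obtain ⟨s₁, hs₁, hs₁e⟩ : ∃ s ∈ T, s * e * s⁻¹ ≠ e := by
    by_contra hh
    push_neg at hh
    have heZ : e ∈ omegaCenterOf T := mem_omegaCenterOf.2
      ⟨heS, mem_centralizer_iff.2 fun s hs => mul_inv_eq_iff_eq_mul.1 (hh s hs),
        by rw [sq, he2]⟩
    rw [hzZ] at heZ
    exact (eq_one_or_eq_of_mem_zpowers hz2 heZ).elim he1 hez
  set E := zpowers z ⊔ zpowers e with hE
  have hze : z * e = e * z := (hzcom e heS).symm
  obtain ⟨hEe, hE4⟩ := four_pair hz2 he2 hz1 he1 (Ne.symm hez) hze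
  have hEz : z ∈ E := mem_sup_left (mem_zpowers z)
  have hEee : e ∈ E := mem_sup_right (mem_zpowers e)
  have hES : E ≤ T := sup_le (zpowers_le.2 hzS) (zpowers_le.2 heS)
  have hEcard : Nat.card E = 4 := by
    refine le_antisymm ?_ hE4
    classical
    have hsub : (E : Set G) ⊆ (({1, z, e, z * e} : Finset G) : Set G) := fun u hu => by
      rcases mem_pair hz2 he2 hze hu with h | h | h | h <;> simp [h]
    have := Nat.card_mono (Finset.finite_toSet _) hsub
    simp only [SetLike.coe_sort_coe, Nat.card_eq_finsetCard] at this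
    exact this.trans Finset.card_le_four
  have hmemC : ∀ s ∈ T, s * e = e * s → s ∈ centralizer (E : Set G) := by
    intro s hs h
    have h' : E ≤ centralizer ({s} : Set G) := sup_le
      (zpowers_le.2 (mem_centralizer_singleton_iff.2 (hzcom s hs).symm))
      (zpowers_le.2 (mem_centralizer_singleton_iff.2 h.symm))
    exact mem_centralizer_iff.2 fun u hu => mem_centralizer_singleton_iff.1 (h' hu)
  have hmulE : ∀ s ∈ T, ∀ t ∈ T, s ∉ centralizer (E : Set G) → t ∉ centralizer (E : Set G) →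
      s * t ∈ centralizer (E : Set G) := by
    intro s hs t ht hs' ht'
    have key : ∀ r ∈ T, r ∉ centralizer (E : Set G) → r * e * r⁻¹ = e * z := fun r hr hr' =>
      (hconj r hr).resolve_left fun h => hr' (hmemC r hr (mul_inv_eq_iff_eq_mul.1 h))
    refine hmemC _ (mul_mem hs ht) (mul_inv_eq_iff_eq_mul.1 ?_)
    calc s * t * e * (s * t)⁻¹ = s * (t * e * t⁻¹) * s⁻¹ := by group
      _ = (s * e * s⁻¹) * (s * z * s⁻¹) := by rw [key t ht ht']; group
      _ = e := by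
        rw [key s hs hs', mul_inv_eq_iff_eq_mul.2 (hzcom s hs), mul_assoc, hz2, mul_one]
  set C₀ := T ⊓ centralizer (E : Set G) with hC₀
  have hmul : ∀ a ∈ T, ∀ b ∈ T, a ∉ C₀ → b ∉ C₀ → a * b ∈ C₀ := fun a ha b hb ha' hb' =>
    ⟨mul_mem ha hb, hmulE a ha b hb (fun h => ha' ⟨ha, h⟩) fun h => hb' ⟨hb, h⟩⟩
  have hs₁C : s₁ ∉ C₀ := fun h =>
    hs₁e (mul_inv_eq_iff_eq_mul.2 (mem_centralizer_iff.1 h.2 e hEee).symm)
  have hrel : C₀.relIndex T = 2 := relIndex_eq_two_iff.2 ⟨s₁, hs₁, fun b hb => by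
    by_cases hbC : b ∈ C₀
    · exact Or.inr ⟨hbC, fun h => hs₁C ((C₀.mul_mem_cancel_left hbC).1 h)⟩
    · exact Or.inl ⟨hmul b hb s₁ hs₁ hbC hs₁C, hbC⟩⟩
  have hzC₀ : z ∈ C₀ := ⟨hzS, hmemC z hzS hze⟩
  have heC₀ : e ∈ C₀ := ⟨heS, hmemC e heS rfl⟩
  -- an involution centralised by a conjugate of `z` outside `C₀`
  have hout : ∀ g x, g * z * g⁻¹ = x → x ∈ T → x ∉ C₀ →
      ∃ y ∈ C₀, y * x = x * y ∧ y * y = 1 ∧ y ≠ 1 ∧ y ≠ z ∧ y ∉ E := by
    intro g x hgx hxS hxC
    have hxz : x ≠ z := fun h => hxC (h ▸ hzC₀)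
    by_contra hh
    push_neg at hh
    refine h2a ⟨g, x, hgx, hxS, hxz, card_eq_four hG S hzZ hz hgx hxS hxz hmul hxC ?_⟩
    intro y hy hyS hyx hy2
    by_contra hy'
    push_neg at hy'
    have hyE := hh y hy hyx hy2 hy'.1 hy'.2
    refine hxC ⟨hxS, hmemC x hxS ?_⟩
    rcases mem_pair hz2 he2 hze hyE with rfl | rfl | rfl | rfl
    · exact absurd rfl hy'.1
    · exact absurd rfl hy'.2
    · exact hyx.symm
    · have hxz' : x * z = z * x := hzcom x hxS
      calc x * e = z * (z * x) * e := by rw [← mul_assoc, hz2, one_mul]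
        _ = z * (x * (z * e)) := by rw [← hxz']; group
        _ = z * z * (e * x) := by rw [← hyx]; group
        _ = e * x := by rw [hz2, one_mul]
  by_cases hI : ∃ y ∈ C₀, y * y = 1 ∧ y ∉ E
  · obtain ⟨y₀, hy₀, hy₀2, hy₀E⟩ := hI
    have hbig : ∀ y ∈ C₀, y * y = 1 → y ∉ E → Big (E ⊔ zpowers y) := fun y hy hy2 hyE =>
      big_sup hEe hE4 hy2 hyE fun u hu => (mem_centralizer_iff.1 hy.2 u hu).symm
    have hA₀ := hbig y₀ hy₀ hy₀2 hy₀E
    have hA₀S : E ⊔ zpowers y₀ ≤ T := sup_le hES (zpowers_le.2 hy₀.1)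
    have hcovC : ∀ t ∈ C₀, orderOf t = 2 → Covered T t := fun t ht hto => by
      by_cases htE : t ∈ E
      · exact ⟨_, hA₀, hA₀S, mem_sup_left htE⟩
      · exact ⟨_, hbig t ht (sq_of_orderOf_two hto) htE, sup_le hES (zpowers_le.2 ht.1),
          mem_sup_right (mem_zpowers t)⟩
    refine linked_se_or_charTwo hG hO' S (linked_of_normal hG hEe hEcard hmulE) hA₀ hA₀S hzS hzc hz
      ?_ (pResidual 2 G) le_rfl hzS hzH hz ?_
    · intro g hgS
      by_cases hgC : g * z * g⁻¹ ∈ C₀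
      · exact hcovC _ hgC ((orderOf_conj g z).trans hz)
      obtain ⟨y, hy, hyx, hy2, hy1, hyz, -⟩ := hout g _ rfl hgS hgC
      set x := g * z * g⁻¹
      have hx2 : x * x = 1 := sq_conj hz2
      have hxz : x ≠ z := fun h => hgC (h ▸ hzC₀)
      have hx1 : x ≠ 1 := fun h => hz1 (conj_eq_one_iff.1 h)
      have hzx : z * x = x * z := (hzcom x hgS).symm
      obtain ⟨hU, hU4⟩ := four_pair hz2 hx2 hz1 hx1 (Ne.symm hxz) hzx
      have hyU : y ∉ zpowers z ⊔ zpowers x := fun h => by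
        rcases mem_pair hz2 hx2 hzx h with rfl | rfl | rfl | rfl
        · exact hy1 rfl
        · exact hyz rfl
        · exact hgC hy
        · exact hgC ((C₀.mul_mem_cancel_left hzC₀).1 hy)
      refine ⟨_, big_sup hU hU4 hy2 hyU fun u hu => ?_,
        sup_le (sup_le (zpowers_le.2 hzS) (zpowers_le.2 hgS)) (zpowers_le.2 hy.1),
        mem_sup_left (mem_sup_right (mem_zpowers x))⟩
      rcases mem_pair hz2 hx2 hzx hu with rfl | rfl | rfl | rfl
      · rw [mul_one, one_mul]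
      · exact hzcom y hy.1
      · exact hyx
      · calc y * (z * x) = (y * z) * x := (mul_assoc _ _ _).symm
          _ = z * (y * x) := by rw [hzcom y hy.1, mul_assoc]
          _ = z * x * y := by rw [hyx, ← mul_assoc]
    · intro t htS htH hto
      by_cases htC : t ∈ C₀
      · exact ⟨1, by simpa using htS, by simpa using hcovC t htC hto⟩
      rcases S0111.result S C₀ inf_le_left hrel t hto htS htC with ⟨M, -, hM, htM⟩ | ⟨g, hg⟩
      · exact absurd (le_pResidual_of_index_two hM htH) htM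
      · exact ⟨g, hg.1, hcovC _ hg ((orderOf_conj g t).trans hto)⟩
  · push_neg at hI
    have hx₀C : x₀ ∈ C₀ := by
      by_contra hh
      obtain ⟨y, hy, -, hy2, -, -, hyE⟩ := hout g₀ x₀ hgx₀ hx₀S hh
      exact hyE (hI y hy hy2)
    have hx₀E := hI x₀ hx₀C (sq_of_orderOf_two hx₀o)
    have hs₁' : s₁ * e * s₁⁻¹ = e * z := (hconj s₁ hs₁).resolve_left hs₁e
    have hboth : (∃ g, g * z * g⁻¹ = e) ∧ ∃ g, g * z * g⁻¹ = e * z := by
      rcases mem_pair hz2 he2 hze hx₀E with h | h | h | h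
      · exact absurd h hx₀1
      · exact absurd h hx₀z
      · subst h
        exact ⟨⟨g₀, hgx₀⟩, s₁ * g₀, by
          rw [← hs₁', ← hgx₀]; group⟩
      · rw [hze] at h
        subst h
        refine ⟨⟨s₁ * g₀, ?_⟩, g₀, hgx₀⟩
        calc s₁ * g₀ * z * (s₁ * g₀)⁻¹ = s₁ * (g₀ * z * g₀⁻¹) * s₁⁻¹ := by group
          _ = (s₁ * e * s₁⁻¹) * (s₁ * z * s₁⁻¹) := by rw [hgx₀]; group
          _ = e := by rw [hs₁', mul_inv_eq_iff_eq_mul.2 (hzcom s₁ hs₁), mul_assoc, hz2, mul_one]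
    refine fused_se_or_charTwo hG hO' S hzZ hz hzH (fused_of_half S inf_le_left hrel ?_)
    intro q hq hqo
    rcases mem_pair hz2 he2 hze (hI q hq (sq_of_orderOf_two hqo)) with rfl | rfl | rfl | rfl
    · exact absurd hqo (by simp)
    · exact ⟨1, by simp⟩
    · exact hboth.1
    · rw [hze]; exact hboth.2

/-- **The reduction to local characteristic two.** -/
theorem main (hG : ZCGroup G) (heven : Even (Nat.card G)) (hO' : pPrimeCore 2 G = ⊥)
    (hO : pCore 2 G = ⊥) (S : Sylow 2 G) :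
    (∃ M : Subgroup (pResidual 2 G), IsStronglyEmbedded M) ∨
      (Nat.card ↥(omegaCenterOf (S : Subgroup G) ⊓ pResidual 2 G) = 2 ∧
        ∀ h ∈ pResidual 2 G, ∀ z ∈ omegaCenterOf (S : Subgroup G) ⊓ pResidual 2 G,
          h * z * h⁻¹ ∈ (S : Subgroup G) → h * z * h⁻¹ ∈ omegaCenterOf (S : Subgroup G)) ∨
      (Nat.card ↥(omegaCenterOf (S : Subgroup G)) = 4 ∧
        omegaOne 2 ((S : Subgroup G) ⊓ pResidual 2 G) = omegaCenterOf (S : Subgroup G)) ∨
      IsCharacteristicTwoType ↥(pResidual 2 G ⊔ omegaCenterOf (S : Subgroup G)) := by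
  haveI : Fact (Nat.Prime 2) := ⟨Nat.prime_two⟩
  haveI hHn : (pResidual 2 G).Normal := pResidual_normal'
  obtain ⟨t₀, ht₀S, ht₀H, ht₀⟩ := exists_involution heven hO' hO S
  set Z := omegaCenterOf (S : Subgroup G) with hZdef
  have hZe : IsElementaryAbelian 2 Z := omega_elementary _
  have hZS : Z ≤ (S : Subgroup G) := fun u hu => (mem_omegaCenterOf.1 hu).1
  have hSC : (S : Subgroup G) ≤ centralizer (Z : Set G) :=
    le_centralizer_iff.1 fun u hu => (mem_omegaCenterOf.1 hu).2.1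
  obtain ⟨z, hzZ, hz⟩ : ∃ z ∈ Z, orderOf z = 2 := by
    have hne : Nontrivial (S : Subgroup G) :=
      ⟨⟨t₀, ht₀S⟩, 1, fun e => ne_one_of_orderOf_two ht₀ (congrArg Subtype.val e)⟩
    haveI := S.isPGroup'.center_nontrivial
    obtain ⟨k, hk0, hk⟩ :=
      (S.isPGroup'.to_subgroup (center (S : Subgroup G))).nontrivial_iff_card.mp inferInstance
    obtain ⟨⟨⟨u, huS⟩, huc⟩, hu⟩ := exists_prime_orderOf_dvd_card'
      (G := center (S : Subgroup G)) 2 (hk ▸ dvd_pow_self 2 hk0.ne')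
    rw [← Subgroup.orderOf_coe, ← Subgroup.orderOf_coe] at hu
    exact ⟨u, mem_omegaCenterOf.2 ⟨huS, mem_centralizer_iff.2 fun s hs =>
      congrArg Subtype.val (mem_center_iff.1 huc ⟨s, hs⟩),
      by rw [sq]; exact sq_of_orderOf_two hu⟩, hu⟩
  by_cases hcy : Z ≤ zpowers z
  · have he : Z = zpowers z := le_antisymm hcy (zpowers_le.2 hzZ)
    have hK : pResidual 2 G ⊔ Z = pResidual 2 G :=
      sup_eq_left.2 (he ▸ zpowers_le.2 (mem_pResidual_of_eq heven hO' hO S he hz))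
    rcases cyclic_case hG heven hO' hO S he hz with h | h | h
    · exact Or.inl h
    · exact Or.inr (Or.inl h)
    · refine Or.inr (Or.inr (Or.inr ?_))
      rwa [hK]
  obtain ⟨z', hz'Z, hz'⟩ := SetLike.not_le_iff_exists.1 hcy
  have hz2 := sq_of_orderOf_two hz
  have hz'2 := mul_self_of_mem hZe hz'Z
  have hz'1 : z' ≠ 1 := fun h => hz' (h ▸ one_mem _)
  have hzz' : z ≠ z' := fun h => hz' (h ▸ mem_zpowers z)
  obtain ⟨-, hU4⟩ := four_pair hz2 hz'2 (ne_one_of_orderOf_two hz) hz'1 hzz'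
    (ElemAbelian.comm hZe hzZ hz'Z)
  have hZ4 : 4 ≤ Nat.card Z :=
    hU4.trans (card_le_of_le (sup_le (zpowers_le.2 hzZ) (zpowers_le.2 hz'Z)))
  by_cases hbig : ∃ A₀, Big A₀ ∧ A₀ ≤ (S : Subgroup G)
  · obtain ⟨A₀, hA₀, hA₀S⟩ := hbig
    have hcov : ∀ t ∈ (S : Subgroup G), orderOf t = 2 → Covered (S : Subgroup G) t := by
      intro t htS hto
      by_cases htZ : t ∈ Z
      · exact ⟨A₀ ⊔ Z, ⟨ElemAbelian.sup hA₀.1 hZe (hA₀S.trans hSC),
          hA₀.2.trans (card_le_of_le le_sup_left)⟩, sup_le hA₀S hZS, mem_sup_right htZ⟩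
      · exact ⟨_, big_sup hZe hZ4 (sq_of_orderOf_two hto) htZ
          (fun u hu => (mem_centralizer_iff.1 (hSC htS) u hu).symm),
          sup_le hZS (zpowers_le.2 htS), mem_sup_right (mem_zpowers t)⟩
    haveI := sup_omega_normal S
    obtain ⟨hzS, hzc, -⟩ := mem_omegaCenterOf.1 hzZ
    rcases linked_se_or_charTwo hG hO' S (linked_of_central hG hZe hZ4 hSC) hA₀ hA₀S hzS hzc hz
        (fun g hg => hcov _ hg ((orderOf_conj g z).trans hz)) (pResidual 2 G ⊔ Z) le_sup_left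
        ht₀S ht₀H ht₀ (fun t htS _ hto => ⟨1, by simpa using htS, by simpa using hcov t htS hto⟩)
      with h | h
    · exact Or.inl h
    · exact Or.inr (Or.inr (Or.inr h))
  push_neg at hbig
  have hZc : Nat.card Z = 4 := by
    refine le_antisymm ?_ hZ4
    by_contra hlt
    push_neg at hlt
    obtain ⟨k, hk⟩ := ElemAbelian.exists_card_eq_pow hZe
    refine hbig Z ⟨hZe, ?_⟩ hZS
    have hk2 : 2 ^ 2 < 2 ^ k := by rw [← hk]; exact hlt
    have := (Nat.pow_lt_pow_iff_right (le_refl 2)).1 hk2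
    calc 8 = 2 ^ 3 := rfl
      _ ≤ 2 ^ k := Nat.pow_le_pow_right two_pos this
      _ = Nat.card Z := hk.symm
  have hall : ∀ y ∈ (S : Subgroup G), y * y = 1 → y ∈ Z := by
    intro y hy hy2
    by_contra hh
    exact hbig _ (big_sup hZe hZ4 hy2 hh fun u hu => (mem_centralizer_iff.1 (hSC hy) u hu).symm)
      (sup_le hZS (zpowers_le.2 hy))
  by_cases hZH : Z ≤ pResidual 2 G
  · refine Or.inr (Or.inr (Or.inl ⟨hZc, le_antisymm ?_ ?_⟩))
    · rw [omegaOne, closure_le]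
      rintro x ⟨hx, hx2⟩
      exact hall x hx.1 (by rw [← sq]; exact hx2)
    · intro x hx
      exact subset_closure ⟨⟨hZS hx, hZH hx⟩, (mem_omegaCenterOf.1 hx).2.2⟩
  · refine Or.inr (Or.inl ⟨?_, fun h hh w hw hwS => hall _ hwS
      (sq_conj (mul_self_of_mem hZe hw.1))⟩)
    have h1 : zpowers t₀ ≤ Z ⊓ pResidual 2 G :=
      zpowers_le.2 ⟨hall t₀ ht₀S (sq_of_orderOf_two ht₀), ht₀H⟩
    have h2 := card_le_of_le h1
    rw [Nat.card_zpowers, ht₀] at h2
    have h3 : Nat.card ↥(Z ⊓ pResidual 2 G) ∣ 4 := hZc ▸ card_dvd_of_le inf_le_left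
    have h4 : Nat.card ↥(Z ⊓ pResidual 2 G) ≠ 4 := fun h4 => hZH
      ((eq_of_le_of_card_ge inf_le_left (hZc.trans h4.symm).le).ge.trans inf_le_right)
    have h5 := Nat.le_of_dvd (by norm_num) h3
    interval_cases hc : Nat.card ↥(Z ⊓ pResidual 2 G)
    · rfl
    · norm_num at h3
    · exact absurd rfl h4

end Cfsg.Agent.Lib.ZC78
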