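import Cfsg.Agent.Lib.ZC78.Basic
import Cfsg.Agent.Lib.MaxClass.SmallCentralizer

/-!
# A 2-local subgroup isomorphic to the symmetric group of degree four forces dihedral or
semidihedral Sylow 2-subgroups
-/

set_option autoImplicit false

namespace Cfsg.Agent.Lib.ZC78

open Cfsg Subgroup
open Cfsg.Agent.Lib
open Equiv (Perm swap)

/-- The normal four-group of the symmetric group of degree four. -/
def fourPerms : Finset (Perm (Fin 4)) :=
  {1, swap 0 1 * swap 2 3, swap 0 2 * swap 1 3, swap 0 3 * swap 1 2}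

theorem card_fourPerms : fourPerms.card = 4 := by decide

set_option maxRecDepth 20000 in
set_option maxHeartbeats 4000000 in
theorem fourPerms_odd : ∀ w : Perm (Fin 4), w ∉ fourPerms →
    (w ^ 3 = 1 ∧ w ≠ 1) ∨ ∃ σ : Perm (Fin 4),
      (w * (σ * w * σ⁻¹)) ^ 3 = 1 ∧ w * (σ * w * σ⁻¹) ≠ 1 := by
  decide

set_option maxRecDepth 20000 in
theorem fourPerms_centralizer : ∀ w : Perm (Fin 4), (∀ v ∈ fourPerms, w * v = v * w) →
    w ∈ fourPerms := by
  decide

set_option maxRecDepth 20000 in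
theorem fourPerms_orbit : ∀ v ∈ fourPerms, ∀ u ∈ fourPerms, v ≠ 1 → u ≠ 1 →
    ∃ σ : Perm (Fin 4), σ * v * σ⁻¹ = u := by
  decide

set_option maxRecDepth 20000 in
theorem fourPerms_sq : ∀ v ∈ fourPerms, v * v = 1 := by decide

/-- A nontrivial normal 2-subgroup of the symmetric group of degree four is the four-group. -/
theorem normal_twoSubgroup_mem (V : Subgroup (Perm (Fin 4))) [V.Normal] (hV : IsPGroup 2 V)
    (hV1 : V ≠ ⊥) (w : Perm (Fin 4)) : w ∈ V ↔ w ∈ fourPerms := by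
  haveI : Fact (Nat.Prime 2) := ⟨Nat.prime_two⟩
  have hodd : ∀ u ∈ V, u ^ 3 = 1 → u = 1 := by
    intro u hu h3
    obtain ⟨k, hk⟩ := hV ⟨u, hu⟩
    have h2 : u ^ 2 ^ k = 1 := congrArg Subtype.val hk
    have := Nat.dvd_gcd (orderOf_dvd_of_pow_eq_one h3) (orderOf_dvd_of_pow_eq_one h2)
    rwa [(Nat.Coprime.pow_right k (by norm_num : Nat.Coprime 3 2)).gcd_eq_one, Nat.dvd_one,
      orderOf_eq_one_iff] at this
  have hle : ∀ u ∈ V, u ∈ fourPerms := by
    intro u hu
    by_contra hn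
    rcases fourPerms_odd u hn with ⟨h3, h1⟩ | ⟨σ, h3, h1⟩
    · exact h1 (hodd u hu h3)
    · exact h1 (hodd _ (mul_mem hu (Normal.conj_mem inferInstance u hu σ)) h3)
  refine ⟨hle w, fun hw => ?_⟩
  by_cases hw1 : w = 1
  · exact hw1 ▸ one_mem V
  obtain ⟨v, hv, hv1⟩ := SetLike.not_le_iff_exists.1 (fun h : V ≤ ⊥ => hV1 (le_bot_iff.1 h))
  obtain ⟨σ, rfl⟩ := fourPerms_orbit v (hle v hv) w hw hv1 hw1
  exact Normal.conj_mem inferInstance v hv σ

/-- Sylow 2-subgroups are dihedral or semidihedral when a 2-local subgroup is `S₄`. -/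
theorem sylow_type {Y : Type*} [Group Y] [Finite Y] {T : Subgroup Y} (hT : IsPGroup 2 T)
    (hT1 : T ≠ ⊥) (e : ↥(normalizer (T : Set Y)) ≃* Perm (Fin 4)) (R : Sylow 2 Y) :
    (∃ n : ℕ, 2 ≤ n ∧ Nonempty (↥(R : Subgroup Y) ≃* DihedralGroup n)) ∨
      IsQuasiDihedral ↥(R : Subgroup Y) := by
  haveI : Fact (Nat.Prime 2) := ⟨Nat.prime_two⟩
  set N := normalizer (T : Set Y) with hN
  set V := (T.subgroupOf N).map e.toMonoidHom with hV
  haveI : (T.subgroupOf N).Normal := normal_in_normalizer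
  haveI : V.Normal := Normal.map inferInstance _ e.surjective
  have hTN : T ≤ N := le_normalizer
  have hVp : IsPGroup 2 V := (hT.comap_subtype).map _
  have hV1 : V ≠ ⊥ := by
    rw [hV, Ne, map_eq_bot_iff_of_injective _ e.injective, subgroupOf_eq_bot, disjoint_iff,
      inf_eq_left.2 hTN]
    exact hT1
  have hmem : ∀ y : N, (y : Y) ∈ T ↔ e y ∈ fourPerms := by
    intro y
    rw [← normal_twoSubgroup_mem V hVp hV1 (e y), hV]
    exact ⟨fun h => ⟨y, h, rfl⟩, fun ⟨x, hx, hxy⟩ => by rwa [← e.injective hxy]⟩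
  have hTcard : Nat.card T = 4 := by
    rw [← card_fourPerms, ← Nat.card_eq_finsetCard]
    refine Nat.card_congr ⟨fun t => ⟨e ⟨t, hTN t.2⟩, (hmem ⟨t, hTN t.2⟩).1 t.2⟩,
      fun v => ⟨(e.symm v : Y), (hmem _).2 (by rw [e.apply_symm_apply]; exact v.2)⟩, ?_, ?_⟩
    · intro t
      exact Subtype.ext (by simp)
    · intro v
      exact Subtype.ext (by simp)
  have hTsq : ∀ t ∈ T, t * t = 1 := by
    intro t ht
    have h := fourPerms_sq _ ((hmem ⟨t, hTN ht⟩).1 ht)
    rw [← map_mul, ← map_one e] at h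
    exact congrArg Subtype.val (e.injective h)
  have hself : ∀ y : Y, (∀ t ∈ T, y * t = t * y) → y ∈ T := by
    intro y hy
    have hyN : y ∈ N := centralizer_le_normalizer _ (mem_centralizer_iff.2 fun t ht => (hy t ht).symm)
    refine (hmem ⟨y, hyN⟩).2 (fourPerms_centralizer _ fun v hv => ?_)
    have ht : ((e.symm v : N) : Y) ∈ T := (hmem _).2 (by rwa [e.apply_symm_apply])
    rw [← e.apply_symm_apply v, ← map_mul, ← map_mul]
    exact congrArg e (Subtype.ext (hy _ ht))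
  obtain ⟨R₁, hR₁⟩ := hT.exists_le_sylow
  suffices h : (∃ n : ℕ, 2 ≤ n ∧ Nonempty (↥(R₁ : Subgroup Y) ≃* DihedralGroup n)) ∨
      IsQuasiDihedral ↥(R₁ : Subgroup Y) by
    rcases h with ⟨n, hn, ⟨f⟩⟩ | h
    · exact Or.inl ⟨n, hn, ⟨(R.equiv R₁).trans f⟩⟩
    · obtain ⟨n, hn, hc, x, y, hx, hy, hxy⟩ := h
      set f := R₁.equiv R
      refine Or.inr ⟨n, hn, (Nat.card_congr f.toEquiv).symm.trans hc, f x, f y, ?_, ?_, ?_⟩
      · rw [MulEquiv.orderOf_eq, hx]
      · rw [MulEquiv.orderOf_eq, hy]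
      · rw [← map_inv, ← map_mul, ← map_mul, hxy, map_pow]
  set P := (R₁ : Subgroup Y)
  have hP : IsPGroup 2 P := R₁.isPGroup'
  haveI : Nontrivial P := by
    obtain ⟨t, ht, ht1⟩ := SetLike.not_le_iff_exists.1 (fun h : T ≤ ⊥ => hT1 (le_bot_iff.1 h))
    exact ⟨⟨t, hR₁ ht⟩, 1, fun e => ht1 (congrArg Subtype.val e)⟩
  haveI := hP.center_nontrivial
  obtain ⟨k, hk0, hk⟩ := (hP.to_subgroup (center P)).nontrivial_iff_card.mp inferInstance
  obtain ⟨⟨z, hzc⟩, hz⟩ := exists_prime_orderOf_dvd_card' (G := center P) 2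
    (hk ▸ dvd_pow_self 2 hk0.ne')
  rw [← Subgroup.orderOf_coe, ← Subgroup.orderOf_coe] at hz
  have hzT : (z : Y) ∈ T := hself _ fun t ht =>
    (congrArg Subtype.val (mem_center_iff.1 hzc ⟨t, hR₁ ht⟩)).symm
  obtain ⟨x, hxT, hxn⟩ : ∃ x ∈ T, x ∉ zpowers (z : Y) := by
    refine SetLike.not_le_iff_exists.1 fun h => ?_
    have := card_le_of_le h
    rw [hTcard, Nat.card_zpowers, hz] at this
    omega
  have hx1 : x ≠ 1 := fun h => hxn (h ▸ one_mem _)
  have hxo : orderOf (⟨x, hR₁ hxT⟩ : P) = 2 :=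
    (Subgroup.orderOf_mk x _).trans (orderOf_two hx1 (hTsq x hxT))
  have hC : Nat.card (centralizer ({(⟨x, hR₁ hxT⟩ : P)} : Set P)) = 4 := by
    rw [← hTcard, ← card_map_of_injective P.subtype_injective]
    refine congrArg (fun X : Subgroup Y => Nat.card X) (le_antisymm ?_ fun t ht => ?_)
    · rintro _ ⟨y, hy, rfl⟩
      refine hself _ fun t ht => ?_
      have hEq : zpowers (z : Y) ⊔ zpowers x = T := by
        have hzo : orderOf (z : Y) = 2 := hz
        refine eq_of_le_of_card_ge (sup_le (zpowers_le.2 hzT) (zpowers_le.2 hxT)) ?_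
        rw [hTcard]
        exact (four_pair (sq_of_orderOf_two hzo) (hTsq x hxT) (ne_one_of_orderOf_two hzo) hx1
          (fun e => hxn (e ▸ mem_zpowers (z : Y)))
          (congrArg Subtype.val (mem_center_iff.1 hzc ⟨x, hR₁ hxT⟩)).symm).2
      have h1 : zpowers (z : Y) ⊔ zpowers x ≤ centralizer ({(y : Y)} : Set Y) := sup_le
        (zpowers_le.2 (mem_centralizer_singleton_iff.2
          (congrArg Subtype.val (mem_center_iff.1 hzc y)).symm))
        (zpowers_le.2 (mem_centralizer_singleton_iff.2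
          (congrArg Subtype.val (mem_centralizer_singleton_iff.1 hy)).symm))
      exact (mem_centralizer_singleton_iff.1 (h1 (hEq.ge ht))).symm
    · refine ⟨⟨t, hR₁ ht⟩, mem_centralizer_singleton_iff.2 (Subtype.ext ?_), rfl⟩
      show t * x = x * t
      calc t * x = (t * x)⁻¹ := (inv_eq_of_mul_eq_one_right (hTsq _ (mul_mem ht hxT))).symm
        _ = x * t := by
          rw [mul_inv_rev, inv_eq_of_mul_eq_one_right (hTsq x hxT),
            inv_eq_of_mul_eq_one_right (hTsq t ht)]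
  rcases MaxClass.hasReflection_or_card_eq_four _ P rfl hP _ hxo hC with h | h
  · rcases MaxClass.eq_dihedral_or_quasi (sq_of_orderOf_two hxo) h with ⟨n, ⟨f⟩⟩ | hq
    · have h4 : 4 ≤ Nat.card P := hTcard ▸ card_le_of_le hR₁
      rw [Nat.card_congr f.toEquiv, DihedralGroup.nat_card] at h4
      exact Or.inl ⟨n, by omega, ⟨f⟩⟩
    · exact Or.inr hq
  · have hTP : T = P := eq_of_le_of_card_ge hR₁ (h.trans hTcard.symm).le
    haveI : IsKleinFour P := by
      haveI : Nontrivial P := inferInstance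
      refine ⟨h, (Monoid.exponent_eq_prime_iff Nat.prime_two).2 fun g hg => ?_⟩
      exact orderOf_two hg (Subtype.ext (hTsq _ (hTP.ge g.2)))
    exact Or.inl ⟨2, le_rfl, IsKleinFour.nonempty_mulEquiv⟩

end Cfsg.Agent.Lib.ZC78
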