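import Cfsg.Agent.Lib.ZC78.Main
import Cfsg.Agent.Lib.ZC78.SymFour
import Cfsg.Agent.Lib.SECount.Basic
import Cfsg.Agent.Lib.Involution.StronglyEmbedded
import Cfsg.Agent.S0518

/-!
# Groups with solvable 2-local subgroups in which `C(Ω₁(Z(S)))` normalises `S`
-/

set_option autoImplicit false

namespace Cfsg.Agent.Lib.ZC78

open Cfsg Subgroup
open Cfsg.Agent.Lib
open Cfsg.Agent.Lib.JComp (mem_omegaCenterOf)

variable {G : Type*} [Group G] [Finite G]

/-- Strong embedding passes to a normal subgroup of even order. -/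
theorem se_of_normal_le {K H : Subgroup G} [H.Normal] (hHK : H ≤ K) {t₀ : G} (ht₀H : t₀ ∈ H)
    (ht₀ : orderOf t₀ = 2) (h : ∃ M : Subgroup K, IsStronglyEmbedded M) :
    ∃ M : Subgroup H, IsStronglyEmbedded M := by
  haveI : Fact (Nat.Prime 2) := ⟨Nat.prime_two⟩
  obtain ⟨M, hM⟩ := h
  set M' := (M.map K.subtype).subgroupOf H with hM'
  have hmem : ∀ x : H, x ∈ M' ↔ (⟨x, hHK x.2⟩ : K) ∈ M := fun x =>
    mem_subgroupOf.trans
      ⟨fun ⟨y, hy, e⟩ => (show y = ⟨x, hHK x.2⟩ from Subtype.ext e) ▸ hy, fun hy => ⟨_, hy, rfl⟩⟩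
  have ht : orderOf (⟨t₀, hHK ht₀H⟩ : K) = 2 := (Subgroup.orderOf_mk t₀ _).trans ht₀
  obtain ⟨u, hu, huM⟩ : ∃ u : H, orderOf u = 2 ∧ u ∈ M' := by
    obtain ⟨t, hto, htM⟩ := SECount.exists_invo_mem hM
    by_cases h0 : (⟨t₀, hHK ht₀H⟩ : K) ∈ M
    · exact ⟨⟨t₀, ht₀H⟩, (Subgroup.orderOf_mk t₀ _).trans ht₀, (hmem _).2 h0⟩
    obtain ⟨w, -, -, hw⟩ := SECount.exists_invo_conj hM hto htM ht h0
    have htH : (t : G) ∈ H := by
      have := Normal.conj_mem (inferInstance : H.Normal) _ ht₀H (w : G)⁻¹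
      rwa [show t₀ = (w : G) * t * (w : G)⁻¹ from (congrArg Subtype.val hw).symm,
        show (w : G)⁻¹ * ((w : G) * t * (w : G)⁻¹) * (w : G)⁻¹⁻¹ = t by group] at this
    exact ⟨⟨t, htH⟩, ((Subgroup.orderOf_mk (t : G) htH).trans (Subgroup.orderOf_coe t)).trans hto,
      (hmem _).2 htM⟩
  refine ⟨M', (Involution.isStronglyEmbedded_iff M').2 ⟨fun e => ?_, ?_, fun x hx hxo g hg => ?_⟩⟩
  · obtain ⟨v, hvo, hvM⟩ := SECount.exists_invo_not_mem hM
    -- a conjugate of the involution of `M'` outside `M`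
    obtain ⟨w, -, -, hw⟩ := SECount.exists_invo_conj hM
      (t := (⟨(u : G), hHK u.2⟩ : K))
      ((Subgroup.orderOf_mk _ _).trans ((Subgroup.orderOf_coe u).trans hu)) ((hmem u).1 huM) hvo hvM
    have hvH : (v : G) ∈ H := hw ▸ Normal.conj_mem (inferInstance : H.Normal) _ u.2 (w : G)
    exact hvM ((hmem ⟨v, hvH⟩).1 (e ▸ mem_top _))
  · rw [even_iff_two_dvd, ← hu, ← Subgroup.orderOf_mk u huM]
    exact orderOf_dvd_natCard _
  · refine (hmem g).2 (SECount.mem_of_conj_mem hM (t := (⟨(x : G), hHK x.2⟩ : K)) ?_ ((hmem x).1 hx)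
      ((hmem (g * x * g⁻¹)).1 hg))
    rw [Subgroup.orderOf_mk, Subgroup.orderOf_coe, hxo]

theorem isSolvable_centralizer (hN : ∀ L : Subgroup G, IsTwoLocal L → Group.IsSolvable L)
    (t : G) (ht : orderOf t = 2) : Group.IsSolvable ↥(centralizer ({t} : Set G)) := by
  have hp : IsPGroup 2 (zpowers t) :=
    ElemAbelian.isPGroup (ElemAbelian.zpowers (by rw [sq, sq_of_orderOf_two ht]))
  haveI := hN _ ⟨zpowers t, hp, fun h => ne_one_of_orderOf_two ht (zpowers_eq_bot.1 h), rfl⟩
  have hle : centralizer ({t} : Set G) ≤ normalizer (zpowers t : Set G) := by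
    have h := centralizer_le_normalizer (zpowers t : Set G)
    rwa [show centralizer (zpowers t : Set G) = centralizer ({t} : Set G) by
      rw [zpowers_eq_closure, centralizer_closure]] at h
  exact Group.isSolvable_of_isSolvable_injective (Subgroup.inclusion_injective hle)

/-- The characteristic two case. -/
theorem charTwo_case (hN : ∀ L : Subgroup G, IsTwoLocal L → Group.IsSolvable L)
    (hZ : ∀ S : Sylow 2 G,
      centralizer (omegaCenterOf (S : Subgroup G) : Set G) ≤ normalizer ((S : Subgroup G) : Set G))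
    (hO : pCore 2 G = ⊥) (S : Sylow 2 G) {t₀ : G} (ht₀H : t₀ ∈ pResidual 2 G)
    (ht₀ : orderOf t₀ = 2)
    (hc : IsCharacteristicTwoType ↥(pResidual 2 G ⊔ omegaCenterOf (S : Subgroup G))) :
    (∃ M : Subgroup (pResidual 2 G), IsStronglyEmbedded M) ∨
      ((∃ n : ℕ, 2 ≤ n ∧
          Nonempty (↥((S : Subgroup G) ⊓ pResidual 2 G) ≃* DihedralGroup n)) ∨
        IsQuasiDihedral ↥((S : Subgroup G) ⊓ pResidual 2 G)) := by
  haveI : Fact (Nat.Prime 2) := ⟨Nat.prime_two⟩
  set H := pResidual 2 G with hH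
  set K := H ⊔ omegaCenterOf (S : Subgroup G) with hK
  haveI : H.Normal := pResidual_normal'
  haveI : K.Normal := sup_omega_normal S
  have hHK : H ≤ K := le_sup_left
  set H' := closure {x : K | Odd (orderOf x)} with hH'
  have hH'eq : H' = H.subgroupOf K := by
    refine le_antisymm (by
      rw [hH', closure_le]
      exact fun x hx => mem_of_mem_pResidual ((Subgroup.orderOf_coe x).symm ▸ hx)) fun x hx => ?_
    have h1 : H ≤ H'.map K.subtype := by
      rw [hH, pResidual, closure_le]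
      intro g hg
      have hgH : g ∈ H := subset_closure hg
      refine ⟨⟨g, hHK hgH⟩, subset_closure ?_, rfl⟩
      show Odd (orderOf _)
      rw [Subgroup.orderOf_mk]
      exact Nat.coprime_two_right.1 hg
    obtain ⟨y, hy, e⟩ := h1 (mem_subgroupOf.1 hx)
    rwa [← Subtype.ext e]
  have hO'' : pCore 2 K = ⊥ := by
    have h := PSolvable.map_subtype_pCore_of_normal (p := 2) K
    rw [hO, bot_inf_eq] at h
    exact (map_eq_bot_iff_of_injective _ K.subtype_injective).1 h
  have hN' : ∀ L : Subgroup K, IsTwoLocal L → Group.IsSolvable L := by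
    rintro L ⟨T, hT, hT1, rfl⟩
    haveI := hN _ ⟨T.map K.subtype, hT.map _,
      fun e => hT1 ((map_eq_bot_iff_of_injective _ K.subtype_injective).1 e), rfl⟩
    refine Group.isSolvable_of_isSolvable_injective
      (f := (K.subtype.comp (normalizer (T : Set K)).subtype).codRestrict
        (normalizer ((T.map K.subtype : Subgroup G) : Set G))
        fun c => le_normalizer_map K.subtype ⟨(c : K), c.2, rfl⟩) ?_
    exact fun a b e => Subtype.ext (Subtype.ext (congrArg Subtype.val e :))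
  have hZ' : ∀ P : Sylow 2 K,
      centralizer {z : K | z ∈ (P : Subgroup K) ∧ z ^ 2 = 1 ∧ ∀ s ∈ (P : Subgroup K), s * z = z * s} ≤
        normalizer ((P : Subgroup K) : Set K) := by
    intro P c hc
    obtain ⟨U, hU⟩ := (P.isPGroup'.map K.subtype).exists_le_sylow
    have hPU : (P : Subgroup K) = (U : Subgroup G).subgroupOf K :=
      (P.is_maximal' U.isPGroup'.comap_subtype fun x hx => mem_subgroupOf.2 (hU ⟨x, hx, rfl⟩)).symm
    obtain ⟨g, hg⟩ := MulAction.exists_smul_eq G S U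
    have hUS : ∀ s, s ∈ (S : Subgroup G) → g * s * g⁻¹ ∈ (U : Subgroup G) := fun s hs => by
      rw [← hg]; exact ⟨s, hs, rfl⟩
    have hcZ : (c : G) ∈ centralizer (omegaCenterOf (U : Subgroup G) : Set G) := by
      refine mem_centralizer_iff.2 fun z hz => ?_
      obtain ⟨hzU, hzc, hz2⟩ := mem_omegaCenterOf.1 hz
      have hzK : z ∈ K := by
        have hzS : g⁻¹ * z * g ∈ (S : Subgroup G) := by
          have h' : z ∈ (S : Subgroup G).map (MulAut.conj g).toMonoidHom := by
            have := hzU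
            rw [← hg] at this
            exact this
          obtain ⟨s, hs, rfl⟩ := h'
          show g⁻¹ * (g * s * g⁻¹) * g ∈ _
          rwa [show g⁻¹ * (g * s * g⁻¹) * g = s by group]
        have h1 : g⁻¹ * z * g ∈ omegaCenterOf (S : Subgroup G) := by
          refine mem_omegaCenterOf.2 ⟨hzS, mem_centralizer_iff.2 fun s hs => ?_, ?_⟩
          · have h := mem_centralizer_iff.1 hzc _ (hUS s hs)
            calc s * (g⁻¹ * z * g) = g⁻¹ * (g * s * g⁻¹ * z) * g := by group
              _ = g⁻¹ * z * g * s := by rw [h]; group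
          · calc (g⁻¹ * z * g) ^ 2 = g⁻¹ * z ^ 2 * g := by rw [sq, sq]; group
              _ = 1 := by rw [hz2]; group
        have h2 := Normal.conj_mem (inferInstance : K.Normal) _ ((le_sup_right : _ ≤ K) h1) g
        rwa [show g * (g⁻¹ * z * g) * g⁻¹ = z by group] at h2
      have := mem_centralizer_iff.1 hc (⟨z, hzK⟩ : K) ⟨hPU ▸ mem_subgroupOf.2 hzU,
        Subtype.ext (by simpa using hz2), fun s hs => Subtype.ext
          (mem_centralizer_iff.1 hzc (s : G) (mem_subgroupOf.1 (hPU ▸ hs)))⟩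
      exact congrArg Subtype.val this
    have hn := hZ U hcZ
    refine mem_normalizer_iff.2 fun x => ?_
    rw [hPU, mem_subgroupOf, mem_subgroupOf]
    exact mem_normalizer_iff.1 hn (x : G)
  rcases S0518.result hc hO'' hN' hZ' H' hH' with h | ⟨M₁, -, -, ⟨⟨T, hT, hT1, rfl⟩, -⟩, -, ⟨e⟩, -⟩
  · exact Or.inl (se_of_normal_le hHK ht₀H ht₀ h)
  right
  let f : H' ≃* H := (MulEquiv.subgroupCongr hH'eq).trans (subgroupOfEquivOfLe hHK)
  have hTm : IsPGroup 2 (T.map f.toMonoidHom) := hT.map _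
  have hT1m : T.map f.toMonoidHom ≠ ⊥ :=
    fun h => hT1 ((map_eq_bot_iff_of_injective _ f.injective).1 h)
  have e' : ↥(normalizer ((T.map f.toMonoidHom : Subgroup H) : Set H)) ≃* Equiv.Perm (Fin 4) :=
    ((MulEquiv.subgroupCongr (map_equiv_normalizer_eq T f).symm).trans
      ((normalizer (T : Set H')).equivMapOfInjective f.toMonoidHom f.injective).symm).trans e
  have hR : IsPGroup 2 ((S : Subgroup G).subgroupOf H) := S.isPGroup'.comap_subtype
  have hRi : ¬ 2 ∣ ((S : Subgroup G).subgroupOf H).index := by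
    rw [← even_iff_two_dvd, Nat.not_even_iff_odd]
    have h := relIndex_inf_normal (S : Subgroup G) H (by
      rw [← Nat.not_even_iff_odd, even_iff_two_dvd]; exact S.not_dvd_index)
    rwa [inf_relIndex_right] at h
  let g : ↥((hR.toSylow hRi : Sylow 2 H) : Subgroup H) ≃* ↥((S : Subgroup G) ⊓ H) :=
    { toFun := fun x => ⟨((x : H) : G), x.2, (x : H).2⟩
      invFun := fun x => ⟨⟨x, x.2.2⟩, x.2.1⟩
      left_inv := fun _ => rfl
      right_inv := fun _ => rfl
      map_mul' := fun _ _ => rfl }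
  rcases sylow_type hTm hT1m e' (hR.toSylow hRi) with ⟨n, hn, ⟨k⟩⟩ | ⟨n, hn, hcard, x, y, hx, hy, hxy⟩
  · exact Or.inl ⟨n, hn, ⟨g.symm.trans k⟩⟩
  · refine Or.inr ⟨n, hn, (Nat.card_congr g.toEquiv).symm.trans hcard, g x, g y, ?_, ?_, ?_⟩
    · rw [MulEquiv.orderOf_eq, hx]
    · rw [MulEquiv.orderOf_eq, hy]
    · rw [← map_inv, ← map_mul, ← map_mul, hxy, map_pow]

end Cfsg.Agent.Lib.ZC78
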